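/-
The number of Sylow subgroups relative to a normal subgroup (P. Hall's product formula).
-/
import Mathlib
import Cfsg.Agent.FGS4.Subnormal

set_option autoImplicit false

namespace Cfsg.Agent.FGS4

open Subgroup MulAction
open scoped Pointwise

theorem card_eq_card_mul_of_fiber {X Y : Type*} [Finite X] [Finite Y] (f : X → Y) (c : ℕ)
    (h : ∀ y, Nat.card {x // f x = y} = c) : Nat.card X = Nat.card Y * c := by
  have := Fintype.ofFinite Y
  rw [← Nat.card_congr (Equiv.sigmaFiberEquiv f), Nat.card_sigma, Nat.card_eq_fintype_card]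
  simp [h]

variable {G : Type*} [Group G] [Finite G] {p : ℕ} [hp : Fact p.Prime]

omit [Finite G] hp in
theorem sylow_eq_of_le {R S : Sylow p G} (h : (R : Subgroup G) ≤ S) : R = S :=
  Sylow.ext (R.is_maximal' S.2 h).symm

/-- The Sylow subgroups of `G` inside `L` are the Sylow subgroups of `L`. -/
theorem card_sylow_le (L : Subgroup G) (P : Sylow p G) (hP : (P : Subgroup G) ≤ L) :
    Nat.card {R : Sylow p G // (R : Subgroup G) ≤ L} = Nat.card (Sylow p L) := by
  refine Nat.card_eq_of_bijective (fun R => R.1.subtype R.2)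
    ⟨fun a b h => Subtype.ext (Sylow.subtype_injective h), fun T => ?_⟩
  obtain ⟨g, rfl⟩ := exists_smul_eq L (P.subtype hP) T
  exact ⟨⟨g • P, Sylow.smul_le hP g⟩, (Sylow.smul_subtype hP g).symm⟩

variable (K : Subgroup G) [hK : K.Normal]

theorem not_dvd_index_subgroupOf_normal (R : Sylow p G) :
    ¬ p ∣ ((R : Subgroup G).subgroupOf K).index := fun h =>
  R.not_dvd_index (h.trans (relIndex_dvd_index_of_normal_right (R : Subgroup G) K))

/-- `R ↦ R ∩ K` on Sylow subgroups. -/
noncomputable def infNormal (R : Sylow p G) : Sylow p K :=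
  (R.2.comap_subtype (K := K)).toSylow (not_dvd_index_subgroupOf_normal K R)

theorem mem_infNormal_iff (R : Sylow p G) (x : K) : x ∈ infNormal K R ↔ (x : G) ∈ R := by
  rfl

theorem infNormal_smul (R : Sylow p G) (k : K) :
    infNormal K ((k : G) • R) = k • infNormal K R := by
  refine Sylow.ext (Subgroup.ext fun x => ?_)
  rw [Sylow.coe_subgroup_smul, mem_pointwise_smul_iff_inv_smul_mem]
  simp only [MulAut.smul_def]
  change (x : G) ∈ ((k : G) • R : Sylow p G).1 ↔ _
  rw [Sylow.coe_subgroup_smul, mem_pointwise_smul_iff_inv_smul_mem]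
  simp only [MulAut.smul_def, MulAut.conj_inv_apply]
  rfl

theorem map_mk'_eq_iff (R S : Sylow p G) :
    R.mapSurjective (QuotientGroup.mk'_surjective K) = S.mapSurjective (QuotientGroup.mk'_surjective K)
      ↔ (R : Subgroup G) ≤ (S : Subgroup G) ⊔ K := by
  constructor
  · intro h
    have h' : (R : Subgroup G).map (QuotientGroup.mk' K) ≤ (S : Subgroup G).map _ :=
      le_of_eq (congrArg Sylow.toSubgroup h)
    rwa [map_le_iff_le_comap, comap_map_eq, QuotientGroup.ker_mk'] at h'
  · intro h
    refine sylow_eq_of_le ?_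
    rw [Sylow.coe_mapSurjective, Sylow.coe_mapSurjective, map_le_iff_le_comap, comap_map_eq,
      QuotientGroup.ker_mk']
    exact h

/-- The number of Sylow subgroups of `G` is that of `G ⧸ K` times that of `P ⊔ K`. -/
theorem card_sylow_eq_quotient_mul (P : Sylow p G) :
    Nat.card (Sylow p G) =
      Nat.card (Sylow p (G ⧸ K)) * Nat.card (Sylow p ↥((P : Subgroup G) ⊔ K)) := by
  refine card_eq_card_mul_of_fiber
    (Sylow.mapSurjective (QuotientGroup.mk'_surjective K)) _ fun y => ?_
  obtain ⟨x, rfl⟩ := Sylow.mapSurjective_surjective (QuotientGroup.mk'_surjective K) p y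
  obtain ⟨g, rfl⟩ := exists_smul_eq G P x
  rw [← card_sylow_le _ P le_sup_left]
  refine (Nat.card_congr ((MulAction.toPerm g).subtypeEquiv fun R => ?_)).symm
  rw [map_mk'_eq_iff]
  have hgK : MulAut.conj g • K = K := Subgroup.Normal.conjAct hK (ConjAct.toConjAct g)
  rw [MulAction.toPerm_apply, Sylow.coe_subgroup_smul, Sylow.coe_subgroup_smul]
  nth_rw 2 [← hgK]
  rw [← smul_sup, pointwise_smul_le_pointwise_smul_iff]

/-- Inside `P ⊔ K`, count via `R ↦ R ⊓ K`. -/
theorem card_sylow_sup_eq_mul (P : Sylow p G) :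
    Nat.card (Sylow p ↥((P : Subgroup G) ⊔ K)) = Nat.card (Sylow p K) *
      Nat.card (Sylow p ↥(((P : Subgroup G) ⊔ K) ⊓
        Subgroup.normalizer (((P : Subgroup G) ⊓ K : Subgroup G) : Set G))) := by
  set L := (P : Subgroup G) ⊔ K with hL
  set Q := (P : Subgroup G) ⊓ K with hQ
  set N := L ⊓ Subgroup.normalizer (Q : Set G) with hN
  have hnormR : ∀ R : Sylow p G, (R : Subgroup G) ≤
      Subgroup.normalizer (((R : Subgroup G) ⊓ K : Subgroup G) : Set G) := fun R =>
    le_trans (le_inf Subgroup.le_normalizer (by rw [normalizer_eq_top]; exact le_top))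
      Subgroup.inf_normalizer_le_normalizer_inf
  have hPN : (P : Subgroup G) ≤ N := le_inf le_sup_left (hnormR P)
  rw [← card_sylow_le L P le_sup_left, ← card_sylow_le N P hPN]
  refine card_eq_card_mul_of_fiber (fun R => infNormal K R.1) _ fun y => ?_
  obtain ⟨k, rfl⟩ := exists_smul_eq K (infNormal K P) y
  rw [← infNormal_smul]
  have key : ∀ R : Sylow p G, (R : Subgroup G) ≤ L →
      (infNormal K R = infNormal K P ↔ (R : Subgroup G) ≤ N) := by
    intro R hRL
    constructor
    · intro h
      refine le_inf hRL ?_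
      have : (R : Subgroup G) ⊓ K = Q := Subgroup.ext fun x => by
        constructor
        · rintro ⟨hx, hxK⟩
          have : (⟨x, hxK⟩ : K) ∈ infNormal K R := hx
          rw [h] at this
          exact ⟨this, hxK⟩
        · rintro ⟨hx, hxK⟩
          have : (⟨x, hxK⟩ : K) ∈ infNormal K P := hx
          rw [← h] at this
          exact ⟨this, hxK⟩
      rw [← this]
      exact hnormR R
    · intro h
      have hQp : IsPGroup p Q := P.2.to_le inf_le_left
      have hQR : Q ≤ R := by
        have := R.is_maximal' (hQp.to_sup_of_normal_left' R.2 (h.trans inf_le_right)) le_sup_right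
        exact le_sup_left.trans this.le
      refine (sylow_eq_of_le (R := infNormal K P) (S := infNormal K R) fun x hx => ?_).symm
      exact hQR ⟨hx, x.2⟩
  have hkL : (k : G) ∈ L := le_sup_right (a := (P : Subgroup G)) k.2
  let e : {R : Sylow p G // (R : Subgroup G) ≤ L} ≃ {R : Sylow p G // (R : Subgroup G) ≤ L} :=
    (MulAction.toPerm (k : G)).subtypeEquiv fun R =>
      ⟨fun h => Sylow.smul_le h (⟨_, hkL⟩ : L), fun h => by
        have := Sylow.smul_le h (⟨_, L.inv_mem hkL⟩ : L)
        rw [MulAction.toPerm_apply] at this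
        simpa [Subgroup.smul_def, smul_smul] using this⟩
  refine Nat.card_congr (((Equiv.subtypeSubtypeEquivSubtype (p := fun R : Sylow p G => (R : Subgroup G) ≤ L)
    (q := fun R => (R : Subgroup G) ≤ N) (fun {R} h => h.trans inf_le_left)).symm.trans
      (e.subtypeEquiv fun R => ?_)).symm)
  change _ ↔ infNormal K ((k : G) • R.1) = infNormal K ((k : G) • P)
  rw [infNormal_smul, infNormal_smul, smul_left_cancel_iff]
  exact (key R.1 R.2).symm

omit hK in
/-- Factoring out a normal `p`-subgroup does not change the number of Sylow subgroups. -/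
theorem card_sylow_quotient_of_isPGroup {H : Type*} [Group H] [Finite H] (Q : Subgroup H)
    [Q.Normal] (hQ : IsPGroup p Q) : Nat.card (Sylow p (H ⧸ Q)) = Nat.card (Sylow p H) := by
  refine (Nat.card_eq_of_bijective (Sylow.mapSurjective (QuotientGroup.mk'_surjective Q))
    ⟨fun R S h => sylow_eq_of_le ?_,
      Sylow.mapSurjective_surjective (QuotientGroup.mk'_surjective Q) p⟩).symm
  rw [map_mk'_eq_iff] at h
  exact h.trans (S.is_maximal' (S.2.to_sup_of_normal_right hQ) le_sup_left).le

/-- **Hall's product formula** for the number of Sylow subgroups. -/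
theorem card_sylow_product_formula (P : Sylow p G) (N : Subgroup G)
    (hN : N = ((P : Subgroup G) ⊔ K) ⊓
      Subgroup.normalizer (((P : Subgroup G) ⊓ K : Subgroup G) : Set G))
    [hn : (((P : Subgroup G) ⊓ K).subgroupOf N).Normal] :
    Nat.card (Sylow p G) = Nat.card (Sylow p (G ⧸ K)) * Nat.card (Sylow p K) *
      Nat.card (Sylow p (N ⧸ ((P : Subgroup G) ⊓ K).subgroupOf N)) := by
  have hQp : IsPGroup p (((P : Subgroup G) ⊓ K).subgroupOf N) :=
    (P.2.to_le inf_le_left).comap_subtype
  rw [card_sylow_quotient_of_isPGroup _ hQp, card_sylow_eq_quotient_mul K P, card_sylow_sup_eq_mul K P, ← hN, mul_assoc]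

end Cfsg.Agent.FGS4
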