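/-
Kazarin's theorem: an element whose class has prime power size lies in the solvable radical,
and two of its conjugates commute modulo `O_p`.

For a simple subnormal `T` not centralised by `x`, the principal `q`-block of `T⟨x⟩` (`q` prime
to `p` and to the order of `x`) contradicts Burnside's vanishing lemma.
-/
import Cfsg.Agent.FGS2.BurnsideClass
import Cfsg.Agent.Blocks.Orth
import Cfsg.Agent.Components.Prelim
import Cfsg.Agent.Core.BurnsidePQ
import Cfsg.Agent.Core.MinimalNormal
import Cfsg.Agent.FGS4.Subnormal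

set_option autoImplicit false
set_option linter.style.haveILetI false

namespace Cfsg.Agent.FGS4.Kazarin

open Subgroup
open scoped ComplexConjugate

universe u

theorem relIndex_sup_eq_of_normal {G : Type*} [Group G] [Finite G] (H N : Subgroup G) [N.Normal] :
    H.relIndex (H ⊔ N) = H.relIndex N := by
  have h1 := relIndex_mul_relIndex ⊥ (H ⊓ N) H bot_le inf_le_left
  have h2 := relIndex_mul_relIndex ⊥ (H ⊓ N) N bot_le inf_le_right
  have h3 := relIndex_mul_relIndex ⊥ N (H ⊔ N) bot_le le_sup_right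
  have h4 := relIndex_mul_relIndex ⊥ H (H ⊔ N) bot_le le_sup_left
  rw [relIndex_bot_left, relIndex_bot_left, inf_relIndex_left] at h1
  rw [relIndex_bot_left, relIndex_bot_left, inf_relIndex_right] at h2
  rw [relIndex_bot_left, relIndex_bot_left, relIndex_sup_right] at h3
  rw [relIndex_bot_left, relIndex_bot_left] at h4
  apply mul_left_cancel₀ (Nat.card_pos (α := H)).ne'
  calc Nat.card H * H.relIndex (H ⊔ N) = Nat.card (H ⊔ N : Subgroup G) := h4
    _ = Nat.card N * N.relIndex H := h3.symm
    _ = Nat.card H * H.relIndex N := by rw [← h2, ← h1]; ring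

theorem relIndex_dvd_index_of_isSubnormal {G : Type*} [Group G] [Finite G] {S : Subgroup G}
    (hS : S.IsSubnormal) (C : Subgroup G) : C.relIndex S ∣ C.index := by
  induction hS with
  | top => rw [relIndex_top_right]
  | step A B hle _ hN ih =>
    refine dvd_trans ?_ ih
    have := FGS4.relIndex_dvd_index_of_normal_right (C.subgroupOf B) (A.subgroupOf B)
    rwa [relIndex_subgroupOf hle] at this

theorem eq_bot_or_eq_top_of_isSubnormal_simple {T : Type*} [Group T] (hT : IsSimpleGroup T)
    {K : Subgroup T} (hK : K.IsSubnormal) : K = ⊥ ∨ K = ⊤ := by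
  induction hK with
  | top => exact Or.inr rfl
  | step A B hle _ hN ih =>
    rcases ih with rfl | rfl
    · exact Or.inl (le_bot_iff.mp hle)
    · exact (show A.Normal by
        rw [← normalizer_eq_top_iff]
        exact top_le_iff.mp ((normal_subgroupOf_iff_le_normalizer hle).mp hN)).eq_bot_or_eq_top

theorem exists_maximal_mem (q : ℕ) (hq : q.Prime) :
    ∃ M : Ideal AlgInt, M.IsMaximal ∧ (q : AlgInt) ∈ M := by
  have hne : (Ideal.span {(q : AlgInt)}) ≠ ⊤ := by
    rw [Ne, Ideal.span_singleton_eq_top]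
    rintro ⟨⟨a, b, hab, -⟩, rfl⟩
    have h : ((q : ℂ)) * (b : ℂ) = 1 := by
      have := congrArg Subtype.val hab
      simpa using this
    have hint : IsIntegral ℤ (((1 : ℕ) : ℂ) / q) := by
      rw [Nat.cast_one, div_eq_mul_inv, one_mul, ← eq_inv_of_mul_eq_one_right h]
      exact b.2
    exact hq.ne_one (Nat.dvd_one.mp (Chars.dvd_of_isIntegral_div hq.pos hint))
  obtain ⟨M, hM, hle⟩ := Ideal.exists_le_maximal _ hne
  exact ⟨M, hM, hle (Ideal.mem_span_singleton_self _)⟩

variable {H : Type u} [Group H] [Finite H]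

/-- The character-theoretic core. -/
theorem false_of_normal_simple (T : Subgroup H) [hT : T.Normal] (hTs : IsSimpleGroup T)
    (x : H) (hgen : T ⊔ zpowers x = ⊤) (hx : ¬ T ≤ Subgroup.centralizer ({x} : Set H))
    (p a : ℕ) (hp : p.Prime) (hclass : (Subgroup.centralizer ({x} : Set H)).index = p ^ a)
    (q : ℕ) [hq : Fact q.Prime] (hqp : q ≠ p) (hqr : ¬ q ∣ orderOf x)
    (hqT : q ∣ Nat.card T) : False := by
  classical
  have := Fintype.ofFinite H
  obtain ⟨M, hM, hqM⟩ := exists_maximal_mem q hq.out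
  obtain ⟨g, hg⟩ := exists_prime_orderOf_dvd_card' (G := T) q hqT
  have hord : q ∣ orderOf (g : H) := by rw [Subgroup.orderOf_coe, hg]
  have horth := Blocks.block_orth_weak hqM (Blocks.isPBlock_principal (G := H)) (x := 1)
    (by rw [orderOf_one]; exact hq.out.not_dvd_one) hord
  have hqpa : ¬ q ∣ p ^ a := fun h =>
    hqp ((Nat.prime_dvd_prime_iff_eq hq.out hp).mp (hq.out.dvd_of_dvd_pow h))
  have hmem : Blocks.oneChar H ∈ Finset.univ.filter (· ∈ principalBlock M H) :=
    Finset.mem_filter.mpr ⟨Finset.mem_univ _, Blocks.one_mem_principal⟩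
  rw [← Finset.add_sum_erase _ _ hmem] at horth
  have hrest : ∀ χ ∈ (Finset.univ.filter (· ∈ principalBlock M H)).erase (Blocks.oneChar H),
      ∃ s : ℂ, IsIntegral ℤ s ∧
        (χ : H → ℂ) 1 * conj ((χ : H → ℂ) g) = (p : ℂ) * s := by
    intro χ hχ
    obtain ⟨hne, hmemB⟩ := Finset.mem_erase.mp hχ
    have hB : χ ∈ principalBlock M H := (Finset.mem_filter.mp hmemB).2
    obtain ⟨n, ρ, hi, hρ⟩ := χ.2
    have hdeg : (χ : H → ℂ) 1 = n := by
      rw [← hρ, Representation.char_one, Module.finrank_fin_fun]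
    by_cases hpn : p ∣ n
    · obtain ⟨d, rfl⟩ := hpn
      refine ⟨(d : ℂ) * conj ((χ : H → ℂ) g), (isIntegral_natCast d).mul ?_, ?_⟩
      · rw [← Chars.char_inv_eq_conj (Chars.irr_isCharacter χ)]
        exact Chars.isIntegral_of_isCharacter (Chars.irr_isCharacter χ) _
      · rw [hdeg]; push_cast; ring
    exfalso
    have hω : MemLocalIdeal M (centralChar (fun _ : H => (1 : ℂ)) x - centralChar (χ : H → ℂ) x) :=
      hB x
    simp only [centralChar, hclass, div_one, mul_one] at hω
    have hpaI : ¬ MemLocalIdeal M ((p ^ a : ℕ) : ℂ) :=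
      mt (Blocks.memI_natCast_iff hqM _).mp hqpa
    have hx0 : (χ : H → ℂ) x ≠ 0 := by
      intro h0
      rw [h0, mul_zero, zero_div, sub_zero] at hω
      exact hpaI hω
    have hnorm := FGS2.norm_char_eq_of_coprime ρ x (by rw [hρ]; exact hx0) (by
      rw [Module.finrank_fin_fun, hclass]
      exact ((hp.coprime_iff_not_dvd.mpr hpn).pow_left a).symm)
    obtain ⟨c, hc⟩ := (Chars.rep_norm_char_eq_iff ρ x).1 hnorm
    -- the kernel contains `T`
    have hTker : ∀ t ∈ T, ρ t = 1 := by
      obtain ⟨t, ht, htx⟩ := SetLike.not_le_iff_exists.mp hx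
      set z := x * t * x⁻¹ * t⁻¹ with hz
      have hzT : z ∈ T := mul_mem (hT.conj_mem t ht x) (inv_mem ht)
      have hz1 : z ≠ 1 := fun h => htx (by
        rw [Subgroup.mem_centralizer_singleton_iff]
        have h2 : x * t = t * x := by
          rwa [hz, mul_inv_eq_one, mul_inv_eq_iff_eq_mul] at h
        exact h2.symm)
      have hzρ : ρ z = 1 := by
        have h1 : ρ (x * t) = ρ (t * x) := by
          rw [map_mul, map_mul, hc, smul_mul_assoc, mul_smul_comm, one_mul, mul_one]
        rw [show z = (x * t) * (t * x)⁻¹ by rw [hz]; group, map_mul, h1, ← map_mul,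
          mul_inv_cancel, map_one]
      have hker : (MonoidHom.ker ρ).subgroupOf T = ⊤ :=
        ((inferInstance : ((MonoidHom.ker ρ).subgroupOf T).Normal).eq_bot_or_eq_top).resolve_left
          fun hb => hz1 (by
            have : (⟨z, hzT⟩ : T) ∈ (MonoidHom.ker ρ).subgroupOf T := hzρ
            rw [hb, Subgroup.mem_bot] at this
            exact congrArg Subtype.val this)
      exact fun t ht => Subgroup.subgroupOf_eq_top.mp hker ht
    have hscal : Chars2.scalarSub ρ = ⊤ := by
      rw [eq_top_iff, ← hgen]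
      exact sup_le (fun t ht => ⟨1, by rw [hTker t ht, one_smul]⟩)
        (zpowers_le.mpr ⟨c, hc⟩)
    have hn1 : n = 1 := by
      have := Chars2.finrank_dvd_index ρ ⊤ fun z _ =>
        (hscal ▸ Subgroup.mem_top z : z ∈ Chars2.scalarSub ρ)
      rwa [Subgroup.index_top, Nat.dvd_one, Module.finrank_fin_fun] at this
    subst hn1
    obtain ⟨φ, hφ⟩ := Chars.exists_hom_of_degree_one (Chars.irr_isCharacter χ)
      (by rw [hdeg, Nat.cast_one])
    have hφv : ∀ y, (χ : H → ℂ) y = (φ y : ℂ) := fun y => by rw [hφ]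
    have hTφ : T ≤ φ.ker := fun t ht => by
      rw [MonoidHom.mem_ker]
      apply Units.ext
      rw [← hφv, ← hρ, Representation.character, hTker t ht, LinearMap.trace_one,
        Module.finrank_fin_fun, Nat.cast_one, Units.val_one]
    have hint : IsIntegral ℤ ((φ x : ℂˣ) : ℂ) := by
      rw [← hφv]; exact Chars.isIntegral_of_isCharacter (Chars.irr_isCharacter χ) _
    let e : AlgInt := ⟨_, hint⟩
    have he : e ^ orderOf x = 1 := Subtype.ext (by
      simp only [e, SubmonoidClass.coe_pow, OneMemClass.coe_one]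
      rw [← Units.val_pow_eq_pow_val, ← map_pow, pow_orderOf_eq_one, map_one, Units.val_one])
    have hI : MemLocalIdeal M ((e : ℂ) - 1) := by
      have h1 : MemLocalIdeal M (((p ^ a : ℕ) : ℂ) * ((e : ℂ) - 1)) := by
        have := Blocks.memI_neg hω
        rw [hdeg, Nat.cast_one, div_one, hφv] at this
        convert this using 1
        simp only [e]; push_cast; ring
      exact (Blocks.memI_or_of_mul (Blocks.memR_natCast _)
        (Blocks.memR_sub (Blocks.memR_of_algInt e) Blocks.memR_one) h1).resolve_left hpaI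
    have he1 : e = 1 := Blocks.root_eq_one_of_sub_mem hqM hqr he
      ((Blocks.memI_algInt_iff (e - 1)).mp (by simpa using hI))
    have hxφ : x ∈ φ.ker := by
      rw [MonoidHom.mem_ker]; apply Units.ext
      simpa [e] using congrArg Subtype.val he1
    have hker : φ.ker = ⊤ := top_le_iff.mp (hgen ▸ sup_le hTφ (zpowers_le.mpr hxφ))
    refine hne (Subtype.ext (funext fun y => ?_))
    rw [hφv, Blocks.coe_oneChar, (MonoidHom.mem_ker (f := φ)).mp (hker ▸ Subgroup.mem_top y),
      Units.val_one]
  choose! f hf1 hf2 using hrest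
  rw [Finset.sum_congr rfl hf2, ← Finset.mul_sum] at horth
  refine FGS2.isIntegral_not_neg_inv p hp (∑ χ ∈ _, f χ) (IsIntegral.sum _ hf1) ?_
  simpa [Blocks.coe_oneChar] using horth

/-- In a group with trivial solvable radical only the identity has prime power class size. -/
theorem eq_one_of_radical {G : Type u} [Group G] [Finite G]
    (hR : Components.solvableRadical G = ⊥) (p : ℕ) (hp : p.Prime) (x : G)
    (hx : ∃ a, (Subgroup.centralizer ({x} : Set G)).index = p ^ a) : x = 1 := by
  by_contra hx1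
  obtain ⟨r, hr, hrd⟩ := Nat.exists_prime_and_dvd (mt orderOf_eq_one_iff.mp hx1)
  set y := x ^ (orderOf x / r) with hy
  have hyord : orderOf y = r := orderOf_pow_orderOf_div (orderOf_pos x).ne' hrd
  have hyclass : ∃ a, (Subgroup.centralizer ({y} : Set G)).index = p ^ a := by
    obtain ⟨a, ha⟩ := hx
    have hle : Subgroup.centralizer ({x} : Set G) ≤ Subgroup.centralizer ({y} : Set G) :=
      fun z hz => by
        rw [Subgroup.mem_centralizer_singleton_iff] at hz ⊢
        exact ((show Commute x z from hz.symm).pow_left _).eq.symm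
    obtain ⟨b, -, hb⟩ := (Nat.dvd_prime_pow hp).mp (ha ▸ Subgroup.index_dvd_of_le hle)
    exact ⟨b, hb⟩
  obtain ⟨a, ha⟩ := hyclass
  set S : Set (Subgroup G) := {T | T.IsSubnormal ∧ IsSimpleGroup T}
  -- a simple subnormal subgroup inside each nontrivial normal subgroup
  have hexists : ∀ N : Subgroup G, N.Normal → N ≠ ⊥ → ∃ T ∈ S, T ≤ N := by
    intro N hN hN0
    obtain ⟨T, ⟨hT, hT0, hTN⟩, hmin⟩ := (Set.toFinite
      {T : Subgroup G | T.IsSubnormal ∧ T ≠ ⊥ ∧ T ≤ N}).exists_minimal ⟨N, hN.isSubnormal, hN0, le_rfl⟩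
    refine ⟨T, ⟨hT, ?_⟩, hTN⟩
    haveI : Nontrivial T := (Subgroup.nontrivial_iff_ne_bot T).mpr hT0
    refine { eq_bot_or_eq_top_of_normal := fun K hK => ?_ }
    by_cases hK0 : K = ⊥
    · exact Or.inl hK0
    right
    have hne : K.map T.subtype ≠ ⊥ := by
      rwa [Ne, Subgroup.map_eq_bot_iff_of_injective _ T.subtype_injective]
    have hsn : (K.map T.subtype).IsSubnormal := by
      refine Subgroup.IsSubnormal.step _ T (map_subtype_le K) hT ?_
      rwa [Subgroup.subgroupOf, comap_map_eq_self_of_injective T.subtype_injective]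
    have hle := hmin ⟨hsn, hne, (map_subtype_le K).trans hTN⟩ (map_subtype_le K)
    refine eq_top_iff.mpr fun t _ => ?_
    obtain ⟨k, hk, hkt⟩ := hle t.2
    rwa [Subtype.ext hkt] at hk
  have hnsolv : ∀ T ∈ S, ¬ Group.IsSolvable T := by
    rintro T ⟨hT, hTs⟩ hsol
    have := Components.le_solvableRadical_of_isSubnormal hT hsol
    rw [hR, le_bot_iff] at this
    subst this
    exact (Subgroup.nontrivial_iff_ne_bot _).mp hTs.toNontrivial rfl
  obtain ⟨T, hTS, hTy⟩ : ∃ T ∈ S, ¬ T ≤ Subgroup.centralizer ({y} : Set G) := by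
    by_contra hcon
    push Not at hcon
    set L := sSup S
    have hLn : L.Normal := by
      rw [← normalizer_eq_top_iff, eq_top_iff]
      intro g _
      rw [Subgroup.mem_normalizer_iff_map_conj_eq]
      have hle : ∀ g : G, L.map (MulAut.conj g).toMonoidHom ≤ L := by
        intro g
        rw [Subgroup.map_le_iff_le_comap]
        refine sSup_le fun T hT => ?_
        rw [← Subgroup.map_le_iff_le_comap]
        refine le_sSup ⟨hT.1.map (MulAut.conj g).surjective, ?_⟩
        exact ((T.equivMapOfInjective (MulAut.conj g).toMonoidHom (MulAut.conj g).injective).isSimpleGroup_congr).mp hT.2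
      refine le_antisymm (hle g) fun z hz => ⟨_, hle g⁻¹ ⟨z, hz, rfl⟩, by simp [mul_assoc]⟩
    have hyC : y ∈ Subgroup.centralizer (L : Set G) := by
      have : L ≤ Subgroup.centralizer ({y} : Set G) := sSup_le hcon
      rw [Subgroup.mem_centralizer_iff]
      exact fun z hz => Subgroup.mem_centralizer_singleton_iff.mp (this hz)
    haveI := hLn
    obtain ⟨T, hT, hTC⟩ := hexists (Subgroup.centralizer (L : Set G)) inferInstance
      fun h => hr.ne_one (by rw [← hyord, orderOf_eq_one_iff]; rwa [h, mem_bot] at hyC)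
    refine hnsolv T hT (Group.isSolvable_of_comm fun u v => Subtype.ext ?_)
    exact Subgroup.mem_centralizer_iff.mp (hTC v.2) u (le_sSup hT u.2)
  obtain ⟨hTsn, hTs⟩ := hTS
  -- centralizer index in `T`
  have hdvd : (Subgroup.centralizer ({y} : Set G)).relIndex T ∣ p ^ a :=
    ha ▸ relIndex_dvd_index_of_isSubnormal hTsn _
  -- `y` normalizes `T`
  have hTn : y ∈ Subgroup.normalizer (T : Set G) := by
    by_contra hn
    set T' := T.map (MulAut.conj y).toMonoidHom
    have hne : T' ≠ T := fun e => hn (Subgroup.mem_normalizer_iff_map_conj_eq.mpr e)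
    have hinf : (T' ⊓ T).subgroupOf T = ⊥ := by
      refine (eq_bot_or_eq_top_of_isSubnormal_simple hTs
        (((hTsn.map (MulAut.conj y).surjective).inf hTsn).subgroupOf)).resolve_right fun htop => hne ?_
      refine (eq_of_le_of_card_ge ((Subgroup.subgroupOf_eq_top.mp htop).trans inf_le_left) ?_).symm
      rw [Subgroup.card_map_of_injective (MulAut.conj y).injective]
    have hCT : (Subgroup.centralizer ({y} : Set G)).subgroupOf T = ⊥ := by
      rw [eq_bot_iff, ← hinf]
      rintro ⟨t, ht⟩ htc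
      refine ⟨⟨t, ht, ?_⟩, ht⟩
      have : t * y = y * t := Subgroup.mem_centralizer_singleton_iff.mp htc
      simp [MulAut.conj_apply, ← this]
    haveI := Fact.mk hp
    obtain ⟨b, -, hb⟩ := (Nat.dvd_prime_pow hp).mp hdvd
    rw [Subgroup.relIndex, hCT, Subgroup.index_bot] at hb
    haveI := (IsPGroup.of_card hb).isNilpotent
    exact hnsolv T ⟨hTsn, hTs⟩ inferInstance
  -- choose `q`
  obtain ⟨q, hq, hqT, hqp, hqr⟩ : ∃ q, q.Prime ∧ q ∣ Nat.card T ∧ q ≠ p ∧ q ≠ r := by
    by_contra hcon
    push Not at hcon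
    refine hnsolv T ⟨hTsn, hTs⟩ (Core.isSolvable_of_primeFactors_card_le_two ?_)
    refine (Finset.card_le_card (t := {p, r}) fun q hq => ?_).trans Finset.card_le_two
    obtain ⟨hq1, hq2, -⟩ := Nat.mem_primeFactors.mp hq
    by_cases h : q = p
    · simp [h]
    · simp [hcon q hq1 hq2 h]
  haveI := Fact.mk hq
  set H := T ⊔ zpowers y with hH
  haveI : (T.subgroupOf H).Normal :=
    normal_subgroupOf_of_le_normalizer (sup_le Subgroup.le_normalizer (zpowers_le.mpr hTn))
  have hyH : y ∈ H := mem_sup_right (mem_zpowers y)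
  have hCH : Subgroup.centralizer ({⟨y, hyH⟩} : Set H) =
      (Subgroup.centralizer ({y} : Set G)).subgroupOf H := by
    ext z
    rw [mem_subgroupOf, Subgroup.mem_centralizer_singleton_iff, Subgroup.mem_centralizer_singleton_iff,
      Subtype.ext_iff]
    rfl
  have hgen : T.subgroupOf H ⊔ zpowers (⟨y, hyH⟩ : H) = ⊤ := by
    apply Subgroup.map_injective H.subtype_injective
    rw [Subgroup.map_sup, subgroupOf_map_subtype, MonoidHom.map_zpowers, ← MonoidHom.range_eq_map,
      range_subtype, inf_eq_left.mpr le_sup_left]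
    rfl
  obtain ⟨b, hb⟩ : ∃ b, (Subgroup.centralizer ({⟨y, hyH⟩} : Set H)).index = p ^ b := by
    obtain ⟨b, -, hb⟩ := (Nat.dvd_prime_pow hp).mp hdvd
    refine ⟨b, ?_⟩
    rw [hCH, ← hb]
    set C := (Subgroup.centralizer ({y} : Set G)).subgroupOf H
    have htop : C ⊔ T.subgroupOf H = ⊤ := by
      rw [eq_top_iff, ← hgen]
      refine sup_le le_sup_right (le_trans (zpowers_le.mpr ?_) le_sup_left)
      exact Subgroup.mem_centralizer_singleton_iff.mpr rfl
    rw [← Subgroup.relIndex_top_right, ← htop, relIndex_sup_eq_of_normal,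
      relIndex_subgroupOf (le_sup_left : T ≤ H)]
  refine false_of_normal_simple (T.subgroupOf H)
    ((subgroupOfEquivOfLe (le_sup_left : T ≤ H)).isSimpleGroup_congr.mpr hTs) ⟨y, hyH⟩ hgen ?_ p b hp hb q hqp
    (by rw [Subgroup.orderOf_mk, hyord]; exact fun h => hqr ((Nat.prime_dvd_prime_iff_eq hq hr).mp h))
    (by rwa [Nat.card_congr (subgroupOfEquivOfLe (le_sup_left : T ≤ H)).toEquiv])
  rw [hCH]
  intro hle
  exact hTy fun t ht => hle (show (⟨t, mem_sup_left ht⟩ : H) ∈ T.subgroupOf H from ht)

end Cfsg.Agent.FGS4.Kazarin
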