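/-
Fixed-point-free modules of Frobenius complements: a finite group which is a Frobenius complement
has an integral representation in which the sum of the powers of every nontrivial element is zero.
-/
import Mathlib.GroupTheory.SchurZassenhaus
import Mathlib.GroupTheory.Sylow
import Mathlib.LinearAlgebra.Matrix.ToLin
import Mathlib.LinearAlgebra.FreeModule.PID
import Mathlib.Algebra.MonoidAlgebra.Basic
import Mathlib.RingTheory.Finiteness.Basic
import Mathlib.Data.ZMod.Basic
import Mathlib.FieldTheory.Finite.Basic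
import Cfsg.Agent.PermGroups.FrobeniusKernel

set_option autoImplicit false
set_option linter.style.haveILetI false

namespace Cfsg.Agent.FGS4.FPFMod

open Finset
open scoped Matrix Pointwise

/-- Every nontrivial element has powers summing to zero. -/
def SumZero {G A : Type*} [Monoid G] [Semiring A] (φ : G →* A) : Prop :=
  ∀ c : G, c ≠ 1 → ∑ i ∈ range (orderOf c), φ c ^ i = 0

theorem SumZero.map {G A B : Type*} [Monoid G] [Semiring A] [Semiring B] {φ : G →* A}
    (h : SumZero φ) (f : A →+* B) : SumZero ((f : A →* B).comp φ) := fun c hc => by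
  simpa [map_sum, map_pow] using congrArg f (h c hc)

theorem pow_mulVec_of_fixed {n K : Type*} [Fintype n] [DecidableEq n] [CommRing K] (M : Matrix n n K)
    (v : n → K) (hv : M *ᵥ v = v) : ∀ i : ℕ, M ^ i *ᵥ v = v
  | 0 => by simp
  | i + 1 => by rw [pow_succ, ← Matrix.mulVec_mulVec, hv, pow_mulVec_of_fixed M v hv i]

theorem SumZero.nsmul_eq_zero {G n K : Type*} [Monoid G] [Fintype n] [DecidableEq n] [CommRing K]
    {ρ : G →* Matrix n n K} (h : SumZero ρ) {c : G} (hc : c ≠ 1) {v : n → K} (hv : ρ c *ᵥ v = v) :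
    orderOf c • v = 0 := by
  have := congrArg (· *ᵥ v) (h c hc)
  simpa [Matrix.sum_mulVec, pow_mulVec_of_fixed _ _ hv] using this

theorem SumZero.fixed_eq_zero {G n K : Type*} [Monoid G] [Fintype n] [DecidableEq n] [CommRing K]
    {ρ : G →* Matrix n n K} (h : SumZero ρ) {c : G} (hc : c ≠ 1) (hu : IsUnit (orderOf c : K))
    {v : n → K} (hv : ρ c *ᵥ v = v) : v = 0 := by
  have h0 := h.nsmul_eq_zero hc hv
  funext i
  have := congrFun h0 i
  rw [Pi.smul_apply, nsmul_eq_mul] at this
  exact hu.mul_right_eq_zero.mp this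

theorem sumZero_of_fixed {G n K : Type*} [Group G] [Finite G] [Fintype n] [DecidableEq n]
    [CommRing K] {ρ : G →* Matrix n n K} (h : ∀ c : G, c ≠ 1 → ∀ v, ρ c *ᵥ v = v → v = 0) :
    SumZero ρ := fun c hc => by
  set T := ∑ i ∈ range (orderOf c), ρ c ^ i
  have h1 := mul_geom_sum (ρ c) (orderOf c)
  rw [← map_pow, pow_orderOf_eq_one, map_one, sub_self, sub_mul, one_mul, sub_eq_zero] at h1
  apply Matrix.toLin'.injective
  refine LinearMap.ext fun v => ?_
  rw [map_zero, LinearMap.zero_apply, Matrix.toLin'_apply]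
  exact h c hc _ (by rw [Matrix.mulVec_mulVec, h1])

section Lift

variable {A B : Type*} [Ring A] [Ring B] [Finite A]

theorem units_lift (f : A →+* B) (hs : Function.Surjective f)
    (hsq : ∀ z w, f z = 0 → f w = 0 → z * w = 0) (u : Bˣ) : ∃ a : Aˣ, f a = u := by
  obtain ⟨a, ha⟩ := hs u
  obtain ⟨b, hb⟩ := hs (↑u⁻¹ : B)
  set z := a * b - 1 with hz
  have hfz : f z = 0 := by rw [hz, map_sub, map_mul, ha, hb, Units.mul_inv, map_one, sub_self]
  have h1 : a * (b * (1 - z)) = 1 := by
    rw [← mul_assoc, show a * b = 1 + z by rw [hz]; abel, add_mul, one_mul, mul_sub, mul_one,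
      hsq z z hfz hfz]
    abel
  have hinj : Function.Injective (· * a) := fun x y hxy => by
    have := congrArg (· * (b * (1 - z))) hxy
    simpa [mul_assoc, h1] using this
  obtain ⟨x, hx⟩ := (Finite.injective_iff_surjective.mp hinj) 1
  simp only at hx
  refine ⟨⟨a, b * (1 - z), h1, ?_⟩, ha⟩
  rw [← left_inv_eq_right_inv hx h1]
  exact hx

theorem hom_lift {G : Type*} [Group G] [Finite G] (f : A →+* B) (hs : Function.Surjective f)
    (hsq : ∀ z w, f z = 0 → f w = 0 → z * w = 0) (p : ℕ) [hp : Fact p.Prime]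
    (hker : ∀ z, f z = 0 → p • z = 0) (hG : ¬ p ∣ Nat.card G) (ρ : G →* B) :
    ∃ σ : G →* A, (f : A →* B).comp σ = ρ := by
  let E : Subgroup (G × Aˣ) := MonoidHom.eqLocus
    ((Units.map (f : A →* B)).comp (MonoidHom.snd G Aˣ)) (ρ.toHomUnits.comp (MonoidHom.fst G Aˣ))
  let π : E →* G := (MonoidHom.fst G Aˣ).comp E.subtype
  have hπ : Function.Surjective π := fun g => by
    obtain ⟨a, ha⟩ := units_lift f hs hsq (ρ.toHomUnits g)
    exact ⟨⟨(g, a), Units.ext ha⟩, rfl⟩
  have hmem : ∀ x : E, f ((x : G × Aˣ).2 : A) = ρ (x : G × Aˣ).1 := fun x => congrArg Units.val x.2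
  have hP : IsPGroup p π.ker := fun x => by
    refine ⟨1, ?_⟩
    have hx1 : ((x : E) : G × Aˣ).1 = 1 := x.2
    set z : A := (((x : E) : G × Aˣ).2 : A) - 1 with hz
    have hfz : f z = 0 := by rw [hz, map_sub, hmem, hx1, map_one, map_one, sub_self]
    have hpow : ∀ m : ℕ, (1 + z) ^ m = 1 + m • z := by
      intro m
      induction m with
      | zero => simp
      | succ m ih =>
        rw [pow_succ, ih, add_mul, one_mul, mul_add, mul_one, smul_mul_assoc, hsq z z hfz hfz,
          smul_zero, add_zero, succ_nsmul]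
        abel
    rw [pow_one]
    refine Subtype.ext (Subtype.ext (Prod.ext ?_ (Units.ext ?_)))
    · show ((x : E) : G × Aˣ).1 ^ p = 1
      rw [hx1, one_pow]
    · show ((((x : E) : G × Aˣ).2 ^ p : Aˣ) : A) = 1
      rw [Units.val_pow_eq_pow_val,
        show (((x : E) : G × Aˣ).2 : A) = 1 + z by rw [hz]; abel, hpow, hker z hfz, add_zero]
  have hidx : π.ker.index = Nat.card G := by
    rw [Subgroup.index_ker, MonoidHom.range_eq_top.mpr hπ, Subgroup.card_top]
  have hcop : (Nat.card π.ker).Coprime π.ker.index := by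
    obtain ⟨k, hk⟩ := hP.exists_card_eq
    rw [hk, hidx]
    exact ((hp.out.coprime_iff_not_dvd.mpr hG)).pow_left k
  obtain ⟨K, hK⟩ := Subgroup.exists_right_complement'_of_coprime hcop
  have hbij : Function.Bijective (π.comp K.subtype) := by
    have hinj : Function.Injective (π.comp K.subtype) := by
      refine (injective_iff_map_eq_one _).mpr fun k hk => Subtype.ext ?_
      exact Subgroup.disjoint_def.mp hK.disjoint hk k.2
    refine (Nat.bijective_iff_injective_and_card _).mpr ⟨hinj, ?_⟩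
    have h1 := hK.card_mul
    rw [← Subgroup.card_mul_index π.ker, hidx] at h1
    exact Nat.eq_of_mul_eq_mul_left Nat.card_pos h1
  let e := MulEquiv.ofBijective _ hbij
  refine ⟨(Units.coeHom A).comp (((MonoidHom.snd G Aˣ).comp (E.subtype.comp K.subtype)).comp
    e.symm.toMonoidHom), MonoidHom.ext fun g => ?_⟩
  show f (((e.symm g : E) : G × Aˣ).2 : A) = ρ g
  rw [hmem]
  exact congrArg ρ (e.apply_symm_apply g)

end Lift

/-- Reduction of a matrix modulo a divisor of the modulus. -/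
abbrev red {n : ℕ} {a b : ℕ} (h : b ∣ a) :
    Matrix (Fin n) (Fin n) (ZMod a) →+* Matrix (Fin n) (Fin n) (ZMod b) :=
  (ZMod.castHom h (ZMod b)).mapMatrix

theorem exists_eq_mul_of_red {n a b : ℕ} [NeZero a] (h : b ∣ a) {z : Matrix (Fin n) (Fin n) (ZMod a)}
    (hz : red h z = 0) : ∃ y, z = (b : ZMod a) • y := by
  have hz' : ∀ i j, ∃ y, z i j = (b : ZMod a) * y := fun i j => by
    have h0 : (ZMod.castHom h (ZMod b)) (z i j) = 0 := congrFun (congrFun hz i) j
    rw [← ZMod.natCast_zmod_val (z i j), map_natCast, ZMod.natCast_eq_zero_iff] at h0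
    obtain ⟨d, hd⟩ := h0
    exact ⟨d, by rw [← ZMod.natCast_zmod_val (z i j), hd, Nat.cast_mul]⟩
  choose y hy using hz'
  exact ⟨Matrix.of y, Matrix.ext fun i j => by simpa using hy i j⟩

theorem exists_lift_level {G : Type*} [Group G] [Finite G] {p n : ℕ} [hp : Fact p.Prime]
    (hG : ¬ p ∣ Nat.card G) (ρ : G →* Matrix (Fin n) (Fin n) (ZMod p)) (k : ℕ) :
    ∃ σ : G →* Matrix (Fin n) (Fin n) (ZMod (p ^ (k + 1))),
      ((red (dvd_pow_self p k.succ_ne_zero) : _ →+* Matrix (Fin n) (Fin n) (ZMod p)) :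
        _ →* Matrix (Fin n) (Fin n) (ZMod p)).comp σ = ρ := by
  induction k with
  | zero =>
    have h : p ^ 1 ∣ p := by rw [pow_one]
    refine ⟨((red h : Matrix (Fin n) (Fin n) (ZMod p) →+* _) : _ →* _).comp ρ,
      MonoidHom.ext fun g => Matrix.ext fun i j => ?_⟩
    exact DFunLike.congr_fun (RingHom.ext_zmod
      ((ZMod.castHom (dvd_pow_self p (Nat.succ_ne_zero 0)) (ZMod p)).comp
        (ZMod.castHom h (ZMod (p ^ 1)))) (RingHom.id (ZMod p))) (ρ g i j)
  | succ k ih =>
    obtain ⟨σ, hσ⟩ := ih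
    have h : p ^ (k + 1) ∣ p ^ (k + 1 + 1) := pow_dvd_pow p (Nat.le_succ _)
    haveI : NeZero (p ^ (k + 1 + 1)) := ⟨pow_ne_zero _ hp.out.ne_zero⟩
    haveI : NeZero (p ^ (k + 1)) := ⟨pow_ne_zero _ hp.out.ne_zero⟩
    obtain ⟨τ, hτ⟩ := hom_lift (red (n := n) h)
      (fun z => ⟨Matrix.of fun i j => ((z i j).val : ZMod (p ^ (k + 1 + 1))),
        Matrix.ext fun i j => by simp⟩)
      (fun z w hz hw => by
        obtain ⟨a, rfl⟩ := exists_eq_mul_of_red h hz
        obtain ⟨b, rfl⟩ := exists_eq_mul_of_red h hw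
        have h0 : (((p ^ (k + 1) : ℕ) : ZMod (p ^ (k + 1 + 1))) * (p ^ (k + 1) : ℕ)) = 0 := by
          rw [← Nat.cast_mul, ZMod.natCast_eq_zero_iff, ← pow_add]
          exact pow_dvd_pow p (by omega)
        rw [Matrix.smul_mul, Matrix.mul_smul, smul_smul, h0, zero_smul])
      p
      (fun z hz => by
        obtain ⟨a, rfl⟩ := exists_eq_mul_of_red h hz
        rw [← Nat.cast_smul_eq_nsmul (ZMod (p ^ (k + 1 + 1))), smul_smul, ← Nat.cast_mul,
          ← pow_succ', ZMod.natCast_self, zero_smul])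
      hG σ
    refine ⟨τ, MonoidHom.ext fun g => Matrix.ext fun i j => ?_⟩
    rw [← hσ, ← hτ]
    exact DFunLike.congr_fun (RingHom.ext_zmod
      (ZMod.castHom (dvd_pow_self p (Nat.succ_ne_zero (k + 1))) (ZMod p))
      ((ZMod.castHom (dvd_pow_self p k.succ_ne_zero) (ZMod p)).comp
        (ZMod.castHom h (ZMod (p ^ (k + 1)))))) (τ g i j)

/-- A lift of a sum-zero representation is sum-zero. -/
theorem sumZero_lift {G : Type*} [Group G] [Finite G] {p n : ℕ} [hp : Fact p.Prime]
    (hG : ¬ p ∣ Nat.card G) {ρ : G →* Matrix (Fin n) (Fin n) (ZMod p)} (h : SumZero ρ) {k : ℕ}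
    {σ : G →* Matrix (Fin n) (Fin n) (ZMod (p ^ (k + 1)))}
    (hσ : ((red (dvd_pow_self p k.succ_ne_zero) : _ →+* Matrix (Fin n) (Fin n) (ZMod p)) :
        _ →* Matrix (Fin n) (Fin n) (ZMod p)).comp σ = ρ) : SumZero σ := by
  haveI : NeZero (p ^ (k + 1)) := ⟨pow_ne_zero _ hp.out.ne_zero⟩
  intro c hc
  set d := orderOf c with hd
  set S := ∑ i ∈ range d, σ c ^ i with hS
  have h0 : red (dvd_pow_self p k.succ_ne_zero) S = 0 := by
    rw [hS, map_sum, ← h c hc, ← hσ]
    exact Finset.sum_congr rfl fun i _ => map_pow _ _ _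
  obtain ⟨T, hT⟩ := exists_eq_mul_of_red _ h0
  have hnil : S ^ (k + 1) = 0 := by
    rw [hT, smul_pow, ← Nat.cast_pow, ZMod.natCast_self, zero_smul]
  have h1 : σ c * S = S := by
    have := mul_geom_sum (σ c) d
    rwa [← map_pow, hd, pow_orderOf_eq_one, map_one, sub_self, sub_mul, one_mul, sub_eq_zero] at this
  have h2 : ∀ i : ℕ, σ c ^ i * S = S := by
    intro i
    induction i with
    | zero => rw [pow_zero, one_mul]
    | succ i ih => rw [pow_succ (σ c), mul_assoc, h1, ih]
  have h3 : S * S = d • S := by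
    conv_lhs => arg 1; rw [hS]
    rw [Finset.sum_mul, Finset.sum_congr rfl fun i _ => h2 i, Finset.sum_const, Finset.card_range]
  have h4 : ∀ m : ℕ, S ^ (m + 1) = d ^ m • S := by
    intro m
    induction m with
    | zero => rw [pow_one, pow_zero, one_smul]
    | succ m ih => rw [pow_succ S, ih, smul_mul_assoc, h3, smul_smul, ← pow_succ d]
  have hA : addOrderOf S ∣ d ^ k := addOrderOf_dvd_of_nsmul_eq_zero (by rw [← h4, hnil])
  have hB : addOrderOf S ∣ p ^ (k + 1) := addOrderOf_dvd_of_nsmul_eq_zero (by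
    rw [← Nat.cast_smul_eq_nsmul (ZMod (p ^ (k + 1))), ZMod.natCast_self, zero_smul])
  have hcop : (d ^ k).Coprime (p ^ (k + 1)) :=
    (((hp.out.coprime_iff_not_dvd.mpr fun hdd =>
      hG (hdd.trans (orderOf_dvd_natCard c))).symm.pow_left k).pow_right _)
  exact AddMonoid.addOrderOf_eq_one_iff.mp (Nat.eq_one_of_dvd_coprimes hcop hA hB)

section Integral

variable {G : Type*} [Group G]

/-- The sum of the powers of `c` in the integral group algebra. -/
noncomputable def powSum (c : G) : MonoidAlgebra ℤ G :=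
  ∑ i ∈ range (orderOf c), MonoidAlgebra.of ℤ G c ^ i

/-- The left ideal generated by the power sums. -/
noncomputable def relIdeal (G : Type*) [Group G] : Ideal (MonoidAlgebra ℤ G) :=
  Ideal.span (powSum '' {c : G | c ≠ 1})

theorem powSum_mul_mem {c : G} (hc : c ≠ 1) (v : MonoidAlgebra ℤ G) :
    powSum c * v ∈ relIdeal G := by
  induction v using MonoidAlgebra.induction_on with
  | of g =>
    have e : powSum c * MonoidAlgebra.of ℤ G g
        = MonoidAlgebra.of ℤ G g * powSum (g⁻¹ * c * g) := by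
      have ho : orderOf (g⁻¹ * c * g) = orderOf c := by
        have := MulEquiv.orderOf_eq (MulAut.conj g⁻¹) c
        rwa [MulAut.conj_apply, inv_inv] at this
      rw [powSum, powSum, ho, Finset.sum_mul, Finset.mul_sum]
      refine Finset.sum_congr rfl fun i _ => ?_
      rw [← map_pow, ← map_pow, ← map_mul, ← map_mul]
      congr 1
      have := map_pow (MulAut.conj g⁻¹) c i
      rw [MulAut.conj_apply, MulAut.conj_apply, inv_inv] at this
      rw [← this]; group
    rw [e]
    refine Ideal.mul_mem_left _ _ (Ideal.subset_span ⟨_, ?_, rfl⟩)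
    intro h
    apply hc
    have := congrArg (fun t => g * t * g⁻¹) h
    simpa [mul_assoc] using this
  | add x y hx hy => rw [mul_add]; exact add_mem hx hy
  | smul r x hx => rw [mul_smul_comm]; exact zsmul_mem hx r

variable [Finite G]

theorem eq_zero_of_intCast_mem {p n : ℕ} [hp : Fact p.Prime] (hn : 0 < n)
    (hG : ¬ p ∣ Nat.card G) {ρ : G →* Matrix (Fin n) (Fin n) (ZMod p)} (h : SumZero ρ) {d : ℤ}
    (hd : (d : MonoidAlgebra ℤ G) ∈ relIdeal G) : d = 0 := by
  obtain ⟨σ, hσ⟩ := exists_lift_level hG ρ d.natAbs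
  have hs := sumZero_lift hG h hσ
  let Φ := MonoidAlgebra.lift ℤ (Matrix (Fin n) (Fin n) (ZMod (p ^ (d.natAbs + 1)))) G σ
  have hle : relIdeal G ≤ RingHom.ker Φ := by
    rw [relIdeal, Ideal.span_le]
    rintro _ ⟨c, hc, rfl⟩
    show Φ (powSum c) = 0
    rw [powSum, map_sum, ← hs c hc]
    exact Finset.sum_congr rfl fun i _ => by rw [map_pow, MonoidAlgebra.lift_of]
  have h0 : (d : Matrix (Fin n) (Fin n) (ZMod (p ^ (d.natAbs + 1)))) = 0 := by
    rw [← map_intCast Φ]; exact hle hd
  have h1 : (d : ZMod (p ^ (d.natAbs + 1))) = 0 := by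
    have := congrFun (congrFun h0 ⟨0, hn⟩) ⟨0, hn⟩
    simpa [Matrix.intCast_apply] using this
  rw [ZMod.intCast_zmod_eq_zero_iff_dvd] at h1
  by_contra hd0
  have h2 := Nat.le_of_dvd (Int.natAbs_pos.mpr hd0) (Int.natCast_dvd.mp h1)
  have h3 := Nat.lt_pow_self (n := d.natAbs + 1) hp.out.one_lt
  omega

/-- From a sum-zero representation in coprime characteristic, an integral one. -/
theorem exists_int_of_sumZero {p n : ℕ} [hp : Fact p.Prime] (hn : 0 < n)
    (hG : ¬ p ∣ Nat.card G) {ρ : G →* Matrix (Fin n) (Fin n) (ZMod p)} (h : SumZero ρ) :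
    ∃ (m : ℕ) (τ : G →* Matrix (Fin m) (Fin m) ℤ), 0 < m ∧ SumZero τ := by
  classical
  let R := MonoidAlgebra ℤ G
  let J : Submodule R R :=
    { carrier := {x | ∃ d : ℤ, d ≠ 0 ∧ d • x ∈ relIdeal G}
      zero_mem' := ⟨1, one_ne_zero, by simp⟩
      add_mem' := by
        rintro x y ⟨a, ha, hx⟩ ⟨b, hb, hy⟩
        refine ⟨a * b, mul_ne_zero ha hb, ?_⟩
        rw [smul_add]
        refine add_mem ?_ ?_
        · rw [mul_comm, mul_smul]; exact zsmul_mem hx b
        · rw [mul_smul]; exact zsmul_mem hy a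
      smul_mem' := by
        rintro r x ⟨a, ha, hx⟩
        refine ⟨a, ha, ?_⟩
        rw [smul_eq_mul, ← mul_smul_comm]
        exact Ideal.mul_mem_left _ r hx }
  let V := R ⧸ J
  have hJ1 : (1 : R) ∉ J := by
    rintro ⟨d, hd0, hd⟩
    exact hd0 (eq_zero_of_intCast_mem hn hG h (by rwa [zsmul_one] at hd))
  haveI : Module.IsTorsionFree ℤ V := by
    refine Module.IsTorsionFree.of_smul_eq_zero fun a v hav => ?_
    rcases eq_or_ne a 0 with ha | ha
    · exact Or.inl ha
    obtain ⟨x, rfl⟩ := Submodule.Quotient.mk_surjective J v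
    refine Or.inr ((Submodule.Quotient.mk_eq_zero J).mpr ?_)
    rw [← Submodule.Quotient.mk_smul, Submodule.Quotient.mk_eq_zero] at hav
    obtain ⟨d, hd, hx⟩ := hav
    exact ⟨d * a, mul_ne_zero hd ha, by rwa [mul_smul]⟩
  haveI : Fintype G := Fintype.ofFinite G
  haveI : Module.Finite ℤ V := Module.Finite.of_surjective
    ((J.mkQ).restrictScalars ℤ) (Submodule.mkQ_surjective J)
  haveI : Module.Free ℤ V := inferInstance
  let b := Module.finBasis ℤ V
  haveI : Nontrivial V := ⟨⟨Submodule.Quotient.mk (1 : R), 0, fun e =>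
    hJ1 ((Submodule.Quotient.mk_eq_zero J).mp e)⟩⟩
  refine ⟨Module.finrank ℤ V, ?_, Module.finrank_pos, ?_⟩
  · exact ((LinearMap.toMatrixAlgEquiv b : _ →ₐ[ℤ] _).comp
      (Algebra.lsmul ℤ ℤ V : R →ₐ[ℤ] Module.End ℤ V) : R →ₐ[ℤ] _).toMonoidHom.comp
      (MonoidAlgebra.of ℤ G)
  · intro c hc
    show ∑ i ∈ range (orderOf c), (LinearMap.toMatrixAlgEquiv b
      (Algebra.lsmul ℤ ℤ V (MonoidAlgebra.of ℤ G c))) ^ i = 0
    suffices hz : (Algebra.lsmul ℤ ℤ V (powSum c) : Module.End ℤ V) = 0 by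
      simp only [powSum, map_sum, map_pow] at hz
      have hz' := congrArg (LinearMap.toMatrixAlgEquiv b) hz
      rw [map_zero, map_sum] at hz'
      simpa only [map_pow] using hz'
    refine LinearMap.ext fun v => ?_
    obtain ⟨x, rfl⟩ := Submodule.Quotient.mk_surjective J v
    show powSum c • (Submodule.Quotient.mk x : V) = 0
    rw [← Submodule.Quotient.mk_smul, Submodule.Quotient.mk_eq_zero]
    exact ⟨1, one_ne_zero, by rw [one_smul]; exact powSum_mul_mem hc x⟩

end Integral

section Complement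

theorem exists_rep_of_add_action {G V : Type*} [Group G] [Finite G] [AddCommGroup V] [Finite V]
    [Nontrivial V] {p : ℕ} [hp : Fact p.Prime] [Module (ZMod p) V] (α : G →* AddMonoid.End V)
    (hfpf : ∀ c : G, c ≠ 1 → ∀ v, α c v = v → v = 0) :
    ∃ (n : ℕ) (ρ : G →* Matrix (Fin n) (Fin n) (ZMod p)), 0 < n ∧
      ∀ c : G, c ≠ 1 → ∀ v, ρ c *ᵥ v = v → v = 0 := by
  let β : G →* Module.End (ZMod p) V :=
    { toFun := fun c => AddMonoidHom.toZModLinearMap p (α c)
      map_one' := LinearMap.ext fun v => by rw [map_one]; rfl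
      map_mul' := fun a b => LinearMap.ext fun v => by rw [map_mul]; rfl }
  let b := Module.finBasis (ZMod p) V
  refine ⟨_, (LinearMap.toMatrixAlgEquiv b).toMulEquiv.toMonoidHom.comp β, Module.finrank_pos,
    fun c hc v hv => ?_⟩
  obtain ⟨w, rfl⟩ := b.equivFun.surjective v
  have : β c w = w := by
    apply b.equivFun.injective
    refine Eq.trans ?_ hv
    exact (LinearMap.toMatrix_mulVec_repr b b (β c) w).symm
  rw [hfpf c hc w this, map_zero]

theorem exists_rep_of_complement {G : Type*} [Group G] [Finite G]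
    {L : Type*} [Group L] [Finite L] {H : Subgroup L} (hF : Cfsg.IsFrobeniusComplement H)
    (e : G ≃* H) :
    ∃ (p n : ℕ) (_ : Fact p.Prime) (ρ : G →* Matrix (Fin n) (Fin n) (ZMod p)),
      0 < n ∧ ¬ p ∣ Nat.card G ∧ ∀ c : G, c ≠ 1 → ∀ v, ρ c *ᵥ v = v → v = 0 := by
  obtain ⟨N, hN, hNn, hc⟩ := PermGroups.Frobenius.exists_kernel hF
  haveI := hNn
  have hidx : Nat.card N = H.index := by
    rw [← PermGroups.Frobenius.natCard_kernel hF, ← hN]; rfl
  have hN1 : Nat.card N ≠ 1 := fun h => hF.2.1 (Subgroup.index_eq_one.mp (hidx ▸ h))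
  obtain ⟨p, hp, hpd⟩ := Nat.exists_prime_and_dvd hN1
  haveI := Fact.mk hp
  have hpG : ¬ p ∣ Nat.card G := fun h => hp.ne_one (Nat.eq_one_of_dvd_coprimes
    (PermGroups.Frobenius.coprime hF) (Nat.card_congr e.toEquiv ▸ h) (hidx ▸ hpd))
  obtain ⟨P⟩ : Nonempty (Sylow p N) := inferInstance
  set P' : Subgroup L := (P : Subgroup N).map N.subtype with hP'
  set M := Subgroup.normalizer (P' : Set L) with hM
  have hMN : M ⊔ N = ⊤ := Sylow.normalizer_sup_eq_top P
  have hNH : N.index = Nat.card H := hc.symm.index_eq_card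
  have hidx' : (N.subgroupOf M).index = Nat.card H := by
    show N.relIndex M = _
    rw [← Subgroup.relIndex_sup_right, sup_comm, sup_comm N, hMN, Subgroup.relIndex_top_right, hNH]
  have hcop' : (Nat.card (N.subgroupOf M)).Coprime (N.subgroupOf M).index := by
    rw [hidx', ← Subgroup.card_map_of_injective M.subtype_injective]
    refine Nat.Coprime.of_dvd_left (Subgroup.card_dvd_of_le ?_)
      (hidx ▸ (PermGroups.Frobenius.coprime hF).symm)
    rintro _ ⟨y, hy, rfl⟩; exact hy
  obtain ⟨K₀, hK₀⟩ := Subgroup.exists_right_complement'_of_coprime hcop'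
  have hKc : Nat.card (K₀.map M.subtype) = Nat.card H := by
    rw [Subgroup.card_map_of_injective M.subtype_injective, ← hidx', hK₀.symm.index_eq_card]
  obtain ⟨x, hx⟩ := PermGroups.Frobenius.exists_le_conj hF (K₀.map M.subtype) hKc.dvd
  have hKeq : K₀.map M.subtype = MulAut.conj x • H := by
    refine Subgroup.eq_of_le_of_card_ge hx (le_of_eq ?_)
    rw [hKc]
    exact (Nat.card_congr (Subgroup.equivSMul (MulAut.conj x) H).toEquiv).symm
  let g : G → L := fun c => x * (e c : L) * x⁻¹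
  have gmul : ∀ a b, g (a * b) = g a * g b := fun a b => by
    simp only [g, map_mul, Subgroup.coe_mul]; group
  have gM : ∀ c, g c ∈ M := fun c => by
    have : g c ∈ MulAut.conj x • H := Subgroup.smul_mem_pointwise_smul _ _ _ (e c).2
    rw [← hKeq] at this
    obtain ⟨y, -, hy⟩ := this
    exact hy ▸ y.2
  have hfix : ∀ c : G, c ≠ 1 → ∀ k ∈ N, g c * k = k * g c → k = 1 := fun c hc1 k hk hcomm => by
    have := PermGroups.Frobenius.centralizer_kernel_eq_one hF hc.disjoint (e c).2
      (h := (e c : L)) (k := x⁻¹ * k * x)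
      (by simpa using hc1) (hNn.conj_mem' k hk x) (by
        calc (e c : L) * (x⁻¹ * k * x) = x⁻¹ * (g c * k) * x := by simp only [g]; group
          _ = x⁻¹ * (k * g c) * x := by rw [hcomm]
          _ = x⁻¹ * k * x * (e c : L) := by simp only [g]; group)
    calc k = x * (x⁻¹ * k * x) * x⁻¹ := by group
      _ = 1 := by rw [this]; group
  -- the elementary abelian subgroup
  let E : Subgroup L :=
    { carrier := {z | z ∈ P' ∧ (∀ y ∈ P', y * z = z * y) ∧ z ^ p = 1}
      one_mem' := ⟨one_mem _, fun y _ => by simp, one_pow _⟩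
      mul_mem' := fun {a b} ha hb => ⟨mul_mem ha.1 hb.1,
        fun y hy => by rw [← mul_assoc, ha.2.1 y hy, mul_assoc, hb.2.1 y hy, mul_assoc],
        by rw [Commute.mul_pow (hb.2.1 a ha.1), ha.2.2, hb.2.2, one_mul]⟩
      inv_mem' := fun {a} ha => ⟨inv_mem ha.1,
        fun y hy => (Commute.inv_right (ha.2.1 y hy)).eq, by rw [inv_pow, ha.2.2, inv_one]⟩ }
  have hEinv : ∀ c, ∀ z ∈ E, g c * z * (g c)⁻¹ ∈ E := fun c z hz => by
    have hn := Subgroup.mem_normalizer_iff.mp (gM c)
    refine ⟨(hn z).mp hz.1, fun y hy => ?_, by rw [conj_pow, hz.2.2, mul_one, mul_inv_cancel]⟩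
    have h' : (g c)⁻¹ * y * g c ∈ P' := by
      refine (hn _).mpr ?_
      rw [show g c * ((g c)⁻¹ * y * g c) * (g c)⁻¹ = y by group]
      exact hy
    calc y * (g c * z * (g c)⁻¹) = g c * ((g c)⁻¹ * y * g c * z) * (g c)⁻¹ := by group
      _ = g c * (z * ((g c)⁻¹ * y * g c)) * (g c)⁻¹ := by rw [hz.2.1 _ h']
      _ = g c * z * (g c)⁻¹ * y := by group
  haveI : Nontrivial E := by
    have hP1 : (P : Subgroup N) ≠ ⊥ := P.ne_bot_of_dvd_card hpd
    haveI : Nontrivial P := (Subgroup.nontrivial_iff_ne_bot _).mpr hP1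
    haveI := P.isPGroup'.center_nontrivial
    have hpc : p ∣ Nat.card (Subgroup.center P) :=
      ((P.isPGroup'.to_subgroup (Subgroup.center P)).card_eq_or_dvd).resolve_left
        (Finite.one_lt_card.ne')
    obtain ⟨w, hw⟩ := exists_prime_orderOf_dvd_card' p hpc
    refine ⟨⟨⟨(((w : P) : N) : L), ⟨_, (w : P).2, rfl⟩, ?_, ?_⟩, 1, ?_⟩⟩
    · rintro _ ⟨y, hy, rfl⟩
      exact congrArg (fun t : P => ((t : N) : L)) (Subgroup.mem_center_iff.mp w.2 ⟨y, hy⟩)
    · have hwp := pow_orderOf_eq_one w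
      rw [hw] at hwp
      simpa using congrArg (fun t : Subgroup.center P => (((t : P) : N) : L)) hwp
    · intro h
      have h' : (((w : P) : N) : L) = 1 := congrArg Subtype.val h
      have : w = 1 := Subtype.ext (Subtype.ext (Subtype.ext h'))
      rw [this, orderOf_one] at hw
      exact hp.ne_one hw.symm
  letI : CommGroup E :=
    { (inferInstance : Group E) with
      mul_comm := fun a b => Subtype.ext (b.2.2.1 a a.2.1) }
  have hEN : ∀ z ∈ E, z ∈ N := fun z hz => by
    obtain ⟨y, -, rfl⟩ := hz.1; exact y.2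
  let act : G → Additive E → Additive E := fun c z =>
    Additive.ofMul ⟨g c * (z.toMul : L) * (g c)⁻¹, hEinv c _ z.toMul.2⟩
  let α : G →* AddMonoid.End (Additive E) :=
    { toFun := fun c => AddMonoidHom.mk' (act c) fun a b =>
        Additive.toMul.injective (Subtype.ext (show g c * ((a.toMul : L) * (b.toMul : L)) * (g c)⁻¹
          = g c * (a.toMul : L) * (g c)⁻¹ * (g c * (b.toMul : L) * (g c)⁻¹) by group))
      map_one' := DFunLike.ext _ _ fun z => Additive.toMul.injective (Subtype.ext (by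
        show g 1 * (z.toMul : L) * (g 1)⁻¹ = z.toMul
        simp [g]))
      map_mul' := fun a b => DFunLike.ext _ _ fun z => Additive.toMul.injective (Subtype.ext (by
        show g (a * b) * (z.toMul : L) * (g (a * b))⁻¹
          = g a * (g b * (z.toMul : L) * (g b)⁻¹) * (g a)⁻¹
        rw [gmul]; group)) }
  have hexp : ∀ z : Additive E, p • z = 0 := fun z =>
    Additive.toMul.injective (Subtype.ext z.toMul.2.2.2)
  letI : Module (ZMod p) (Additive E) := AddCommGroup.zmodModule hexp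
  obtain ⟨n, ρ, hn, hρ⟩ := exists_rep_of_add_action (p := p) α fun c hc1 v hv => by
    have h1 : g c * (v.toMul : L) * (g c)⁻¹ = v.toMul :=
      congrArg (fun t : Additive E => (t.toMul : L)) hv
    exact Additive.toMul.injective (Subtype.ext
      (hfix c hc1 _ (hEN _ v.toMul.2) (mul_inv_eq_iff_eq_mul.mp h1)))
  exact ⟨p, n, inferInstance, ρ, hn, hpG, hρ⟩

/-- A Frobenius complement has an integral representation in which the powers of each nontrivial
element sum to zero. -/
theorem exists_int_rep {G : Type*} [Group G] [Finite G]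
    {L : Type*} [Group L] [Finite L] {H : Subgroup L} (hF : Cfsg.IsFrobeniusComplement H)
    (e : G ≃* H) : ∃ (m : ℕ) (τ : G →* Matrix (Fin m) (Fin m) ℤ), 0 < m ∧ SumZero τ := by
  obtain ⟨p, n, hp, ρ, hn, hpG, hρ⟩ := exists_rep_of_complement hF e
  exact exists_int_of_sumZero hn hpG (sumZero_of_fixed hρ)

end Complement

end Cfsg.Agent.FGS4.FPFMod
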