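import Cfsg.Prelude.Def_Solvable
import Mathlib.GroupTheory.SemidirectProduct
import Mathlib.GroupTheory.Index
import Mathlib.Data.Fintype.Card
import Mathlib.Algebra.Group.Shrink
import Mathlib.SetTheory.Cardinal.Finite

set_option autoImplicit false

namespace Cfsg.Agent.FGS4

open Pointwise

/-- Frobenius complements are transported by isomorphisms. -/
theorem isFrobeniusComplement_map {G L : Type*} [Group G] [Group L] (e : G ≃* L)
    {H : Subgroup G} (hH : Cfsg.IsFrobeniusComplement H) :
    Cfsg.IsFrobeniusComplement (H.map e.toMonoidHom) := by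
  obtain ⟨h1, h2, h3⟩ := hH
  refine ⟨fun h => h1 ?_, fun h => h2 ?_, fun g hg => ?_⟩
  · exact (Subgroup.map_eq_bot_iff_of_injective _ e.injective).mp h
  · rw [eq_top_iff]
    intro x _
    have : e x ∈ H.map e.toMonoidHom := h ▸ Subgroup.mem_top _
    obtain ⟨y, hy, hyx⟩ := this
    exact e.injective hyx ▸ hy
  · obtain ⟨g, rfl⟩ := e.surjective g
    have hg' : g ∉ H := fun h => hg ⟨g, h, rfl⟩
    rw [eq_bot_iff]
    rintro x ⟨⟨y, hy, rfl⟩, hx⟩
    change e y ∈ MulAut.conj (e g) • H.map e.toMonoidHom at hx
    rw [Subgroup.mem_pointwise_smul_iff_inv_smul_mem] at hx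
    obtain ⟨z, hz, hzx⟩ := hx
    have hy' : y ∈ MulAut.conj g • H := by
      rw [Subgroup.mem_pointwise_smul_iff_inv_smul_mem]
      have : z = (MulAut.conj g)⁻¹ • y := by
        apply e.injective
        simpa [MulAut.smul_def] using hzx
      exact this ▸ hz
    have : y ∈ H ⊓ MulAut.conj g • H := ⟨hy, hy'⟩
    rw [h3 g hg', Subgroup.mem_bot] at this
    simp [this]

/-- A fixed-point-free action on a nontrivial group yields a Frobenius complement in the
semidirect product. -/
theorem isFrobeniusComplement_inr {H N : Type*} [Group H] [Nontrivial H] [Group N] [Nontrivial N]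
    (φ : H →* MulAut N) (hfpf : ∀ h : H, h ≠ 1 → ∀ n : N, φ h n = n → n = 1) :
    Cfsg.IsFrobeniusComplement (SemidirectProduct.inr : H →* N ⋊[φ] H).range := by
  refine ⟨?_, ?_, ?_⟩
  · obtain ⟨h, hh⟩ := exists_ne (1 : H)
    intro h0
    have : SemidirectProduct.inr h ∈ (SemidirectProduct.inr : H →* N ⋊[φ] H).range := ⟨h, rfl⟩
    rw [h0, Subgroup.mem_bot] at this
    exact hh (by simpa using congrArg SemidirectProduct.right this)
  · obtain ⟨n, hn⟩ := exists_ne (1 : N)
    intro h0
    obtain ⟨h, hh⟩ : SemidirectProduct.inl n ∈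
        (SemidirectProduct.inr : H →* N ⋊[φ] H).range := h0 ▸ Subgroup.mem_top _
    exact hn (by simpa using (congrArg SemidirectProduct.left hh).symm)
  · intro g hg
    rw [eq_bot_iff]
    rintro x ⟨⟨a, rfl⟩, hx⟩
    change SemidirectProduct.inr a ∈
      MulAut.conj g • (SemidirectProduct.inr : H →* N ⋊[φ] H).range at hx
    rw [Subgroup.mem_pointwise_smul_iff_inv_smul_mem] at hx
    obtain ⟨b, hb⟩ := hx
    have heq : g * SemidirectProduct.inr b = SemidirectProduct.inr a * g := by
      rw [hb]; simp [MulAut.smul_def, mul_assoc]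
    have hl : φ a g.left = g.left := by
      simpa using (congrArg SemidirectProduct.left heq).symm
    rw [Subgroup.mem_bot]
    by_contra ha
    have ha' : a ≠ 1 := fun h => ha (by simp [h])
    exact hg ⟨g.right, SemidirectProduct.ext (by simp [hfpf a ha' _ hl]) (by simp)⟩

/-- A nontrivial finite group with a fixed-point-free action on a nontrivial finite group is a
Frobenius complement of a group in `Type`. -/
theorem exists_complement_of_fpf {H N : Type*} [Group H] [Finite H] [Nontrivial H] [Group N]
    [Finite N] [Nontrivial N]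
    (φ : H →* MulAut N) (hfpf : ∀ h : H, h ≠ 1 → ∀ n : N, φ h n = n → n = 1) :
    ∃ (L : Type) (_ : Group L) (_ : Finite L) (C : Subgroup L),
      Cfsg.IsFrobeniusComplement C ∧ Nonempty (H ≃* C) := by
  have : Finite (N ⋊[φ] H) := Finite.of_equiv _ SemidirectProduct.equivProd.symm
  have : Small.{0} (N ⋊[φ] H) := inferInstance
  let f : N ⋊[φ] H ≃* Shrink.{0} (N ⋊[φ] H) := Shrink.mulEquiv.symm
  refine ⟨Shrink.{0} (N ⋊[φ] H), inferInstance, Finite.of_equiv _ f.toEquiv, _,
    isFrobeniusComplement_map f (isFrobeniusComplement_inr φ hfpf), ⟨?_⟩⟩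
  exact (MonoidHom.ofInjective SemidirectProduct.inr_injective).trans
    (f.subgroupMap (SemidirectProduct.inr : H →* N ⋊[φ] H).range)

/-- Additive version of `exists_complement_of_fpf`, with the action given as a function. -/
theorem exists_complement_of_fpf_add {H M : Type*} [Group H] [Finite H] [Nontrivial H]
    [AddGroup M] [Finite M] [Nontrivial M] (ρ : H → M → M) (h1 : ∀ m, ρ 1 m = m)
    (hmul : ∀ a b m, ρ (a * b) m = ρ a (ρ b m)) (hadd : ∀ a m m', ρ a (m + m') = ρ a m + ρ a m')
    (hfpf : ∀ h : H, h ≠ 1 → ∀ m : M, ρ h m = m → m = 0) :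
    ∃ (L : Type) (_ : Group L) (_ : Finite L) (C : Subgroup L),
      Cfsg.IsFrobeniusComplement C ∧ Nonempty (H ≃* C) := by
  let φ : H →* MulAut (Multiplicative M) :=
    { toFun := fun a =>
        { toFun := fun m => Multiplicative.ofAdd (ρ a m.toAdd)
          invFun := fun m => Multiplicative.ofAdd (ρ a⁻¹ m.toAdd)
          left_inv := fun m => by simp [← hmul, h1]
          right_inv := fun m => by simp [← hmul, h1]
          map_mul' := fun m m' => by simp [hadd] }
      map_one' := by ext m; simp [h1]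
      map_mul' := fun a b => by ext m; simp [hmul] }
  refine exists_complement_of_fpf φ fun h hh n hn => ?_
  exact congrArg Multiplicative.ofAdd (hfpf h hh n.toAdd (congrArg Multiplicative.toAdd hn))

end Cfsg.Agent.FGS4
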