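/-
Sylow arithmetic showing that no finite simple group has order a proper divisor of `175560`
divisible by `19`, apart from the prime `19`.
-/
import Mathlib.GroupTheory.Sylow
import Mathlib.GroupTheory.Transfer
import Mathlib.GroupTheory.Perm.Sign
import Mathlib.GroupTheory.SpecificGroups.Alternating
import Mathlib.GroupTheory.Perm.Subgroup
import Mathlib.Tactic.NormNum.Prime
import Mathlib.Data.Nat.Prime.Int
import Cfsg.Agent.Transfer.Burnside
import Cfsg.Agent.Coprime.Action
import Cfsg.Agent.Coprime.Generation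

set_option autoImplicit false

namespace Cfsg.Agent.FGS4.JankoOrder

/-! ### The search -/

/-- The divisors of `175560`. -/
def divs : List ℕ :=
  [1, 2, 3, 4, 5, 6, 7, 8, 10, 11, 12, 14, 15, 19, 20, 21, 22, 24, 28, 30, 33, 35, 38, 40, 42,
   44, 55, 56, 57, 60, 66, 70, 76, 77, 84, 88, 95, 105, 110, 114, 120, 132, 133, 140, 152, 154,
   165, 168, 190, 209, 210, 220, 228, 231, 264, 266, 280, 285, 308, 330, 380, 385, 399, 418, 420,
   440, 456, 462, 532, 570, 616, 627, 660, 665, 760, 770, 798, 836, 840, 924, 1045, 1064, 1140,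
   1155, 1254, 1320, 1330, 1463, 1540, 1596, 1672, 1848, 1995, 2090, 2280, 2310, 2508, 2660, 2926,
   3080, 3135, 3192, 3990, 4180, 4389, 4620, 5016, 5320, 5852, 6270, 7315, 7980, 8360, 8778, 9240,
   11704, 12540, 14630, 15960, 17556, 21945, 25080, 29260, 35112, 43890, 58520, 87780, 175560]

/-- The possible values of the number `n` of Sylow `q`-subgroups. -/
def okN (X q n : ℕ) : Bool :=
  1 < n && n % q == 1 && (X / q) % n == 0 && 1 < Nat.gcd (q - 1) (X / q / n) &&
    !(q == 19 && n == 20 && X / q / n % 2 == 0)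

/-- The condition relating the Sylow numbers of two primes. -/
def pairOK (X : ℕ) (x y : ℕ × ℕ) : Bool :=
  if X / x.1 / x.2 % y.1 != 0 || (x.1 - 1) % y.1 == 0 then true
  else X / y.1 / y.2 % x.1 == 0 && divs.any fun a =>
    (X / x.1 / x.2 / y.1) % a == 0 && a % y.1 == 1 && divs.any fun b =>
      (X / y.1 / y.2 / x.1) % b == 0 && b % x.1 == 1 && x.2 * a == y.2 * b

/-- A lower bound for the number of elements of order divisible by `q`. -/
def weight (X : ℕ) (x : ℕ × ℕ) : ℕ :=
  x.2 * (x.1 - 1) * (X / x.1 / x.2 / Nat.gcd (x.1 - 1) (X / x.1 / x.2))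

/-- No element of order divisible by both primes. -/
def apart (X : ℕ) (x y : ℕ × ℕ) : Bool :=
  X / x.1 / x.2 % y.1 != 0 && X / y.1 / y.2 % x.1 != 0

/-- Counting elements for a triple of primes. -/
def killTriple (X a b c : ℕ) (cur : List (ℕ × ℕ)) : Bool :=
  cur.any fun x => x.1 == a && cur.any fun y => y.1 == b && cur.any fun z => z.1 == c &&
    apart X x y && apart X x z && apart X y z && X < 1 + weight X x + weight X y + weight X z

/-- The search over the Sylow numbers. -/
def search (X : ℕ) : List ℕ → List (ℕ × ℕ) → Bool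
  | [], cur => killTriple X 19 7 5 cur || killTriple X 19 11 7 cur
  | q :: qs, cur =>
    if X % q == 0 then
      divs.all fun n => !(okN X q n) ||
        !(cur.all fun p => pairOK X (q, n) p && pairOK X p (q, n)) || search X qs ((q, n) :: cur)
    else search X qs cur

theorem search_table :
    (divs.filter fun X => X % 19 == 0 && X % 4 == 0 && X < 175560).all
      (fun X => search X [19, 11, 7, 5, 3] []) = true := by
  decide +kernel

theorem mem_mul_list {a b d : ℕ} {la lb : List ℕ} (ha : ∀ e, e ∣ a → e ∈ la)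
    (hb : ∀ e, e ∣ b → e ∈ lb) (h : d ∣ a * b) :
    d ∈ la.flatMap (fun x => lb.map (x * ·)) := by
  obtain ⟨y, z, hy, hz, rfl⟩ := Nat.dvd_mul.mp h
  exact List.mem_flatMap.mpr ⟨y, ha y hy, List.mem_map.mpr ⟨z, hb z hz, rfl⟩⟩

theorem mem_divs {d : ℕ} (h : d ∣ 175560) : d ∈ divs := by
  have hp : ∀ p : ℕ, p.Prime → ∀ e, e ∣ p → e ∈ [1, p] := fun p hp e he => by
    rcases (Nat.dvd_prime hp).mp he with rfl | rfl <;> simp
  have h8 : ∀ e, e ∣ 8 → e ∈ [1, 2, 4, 8] := fun e he => by
    have := Nat.le_of_dvd (by norm_num) he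
    interval_cases e <;> simp at * <;> omega
  have h' : d ∣ 8 * 3 * 5 * 7 * 11 * 19 := h
  have h1 := fun e => mem_mul_list (d := e) h8 (hp 3 (by norm_num))
  have h2 := fun e => mem_mul_list (d := e) h1 (hp 5 (by norm_num))
  have h3 := fun e => mem_mul_list (d := e) h2 (hp 7 (by norm_num))
  have h4 := fun e => mem_mul_list (d := e) h3 (hp 11 (by norm_num))
  have hmem := mem_mul_list h4 (hp 19 (by norm_num)) h'
  have hall : ((((([1, 2, 4, 8].flatMap fun x => [1, 3].map (x * ·)).flatMap fun x =>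
      [1, 5].map (x * ·)).flatMap fun x => [1, 7].map (x * ·)).flatMap fun x =>
      [1, 11].map (x * ·)).flatMap fun x => [1, 19].map (x * ·)).all (divs.contains ·) = true := by
    decide +kernel
  exact List.contains_iff_mem.mp (List.all_eq_true.mp hall d hmem)

/-! ### The facts -/

variable {G : Type*} [Group G] [Finite G]

/-- Data of a Sylow subgroup of prime order. -/
theorem sylow_prime {q : ℕ} [hq : Fact q.Prime] (hd : q ∣ Nat.card G) (hd2 : ¬ q ^ 2 ∣ Nat.card G)
    (Q : Sylow q G) : Nat.card (Q : Subgroup G) = q := by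
  obtain ⟨m, hm⟩ := IsPGroup.iff_card.mp Q.2
  have h1 : m ≤ 1 := by
    by_contra h
    exact hd2 ((pow_dvd_pow q (by omega : 2 ≤ m)).trans (hm ▸ Subgroup.card_subgroup_dvd_card _))
  rcases Nat.le_one_iff_eq_zero_or_eq_one.mp h1 with rfl | rfl
  · exact absurd (Subgroup.card_eq_one.mp (by rw [hm, pow_zero])) (Q.ne_bot_of_dvd_card hd)
  · rw [hm, pow_one]

theorem not_normal_of_simple [IsSimpleGroup G] {q : ℕ} [hq : Fact q.Prime] (hd : q ∣ Nat.card G)
    (hne : Nat.card G ≠ q) (hd2 : ¬ q ^ 2 ∣ Nat.card G) (Q : Sylow q G) :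
    ¬ (Q : Subgroup G).Normal := by
  intro h
  rcases h.eq_bot_or_eq_top with h1 | h1
  · exact Q.ne_bot_of_dvd_card hd h1
  · exact hne (by rw [← sylow_prime hd hd2 Q, h1, Subgroup.card_top])

theorem card_normalizer {q : ℕ} [hq : Fact q.Prime] (Q : Sylow q G) :
    Nat.card (Sylow q G) * Nat.card (Subgroup.normalizer ((Q : Subgroup G) : Set G)) = Nat.card G := by
  rw [Sylow.card_eq_index_normalizer Q, mul_comm]
  exact Subgroup.card_mul_index _

/-- Arithmetic of a Sylow subgroup of prime order. -/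
theorem sylow_arith {q : ℕ} [hq : Fact q.Prime] (hd : q ∣ Nat.card G)
    (hd2 : ¬ q ^ 2 ∣ Nat.card G) (Q : Sylow q G) :
    Nat.card (Subgroup.normalizer ((Q : Subgroup G) : Set G)) = q * (Nat.card G / q / Nat.card (Sylow q G)) ∧
      (Nat.card G / q) % Nat.card (Sylow q G) = 0 := by
  obtain ⟨k, hk⟩ : q ∣ Nat.card (Subgroup.normalizer ((Q : Subgroup G) : Set G)) := by
    have h := Subgroup.card_dvd_of_le (Subgroup.le_normalizer (H := (Q : Subgroup G)))
    rwa [sylow_prime hd hd2 Q] at h
  have h := card_normalizer Q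
  rw [hk] at h
  have h1 : Nat.card G / q = Nat.card (Sylow q G) * k :=
    Nat.div_eq_of_eq_mul_left hq.out.pos (by rw [← h]; ring)
  rw [h1, Nat.mul_div_cancel_left _ Nat.card_pos, Nat.mul_mod_right]
  exact ⟨hk, rfl⟩

/-- The centraliser of a Sylow subgroup of prime order. -/
theorem centralizer_data {q : ℕ} [hq : Fact q.Prime] (hd : q ∣ Nat.card G)
    (hd2 : ¬ q ^ 2 ∣ Nat.card G) (Q : Sylow q G) :
    ∃ c m : ℕ, Nat.card (Subgroup.centralizer ((Q : Subgroup G) : Set G)) = q * c ∧
      c * m = Nat.card G / q / Nat.card (Sylow q G) ∧ m ∣ q - 1 ∧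
      (m = 1 → Subgroup.normalizer ((Q : Subgroup G) : Set G) ≤ Subgroup.centralizer ((Q : Subgroup G) : Set G)) := by
  have hcardQ := sylow_prime hd hd2 Q
  haveI hcyc : IsCyclic (Q : Subgroup G) := isCyclic_of_prime_card hcardQ
  set N := Subgroup.normalizer ((Q : Subgroup G) : Set G) with hN
  set C := Subgroup.centralizer ((Q : Subgroup G) : Set G) with hC
  have hCN : C ≤ N := Subgroup.centralizer_le_normalizer _
  have hQC : (Q : Subgroup G) ≤ C := fun x hx => Subgroup.mem_centralizer_iff.mpr fun y hy =>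
    congrArg Subtype.val (mul_comm' (⟨y, hy⟩ : (Q : Subgroup G)) ⟨x, hx⟩)
  obtain ⟨c, hc⟩ : q ∣ Nat.card C := hcardQ ▸ Subgroup.card_dvd_of_le hQC
  refine ⟨c, C.relIndex N, hc, ?_, ?_, fun h => Subgroup.relIndex_eq_one.mp h⟩
  · have h : C.relIndex N * Nat.card C = Nat.card N := by
      rw [← Subgroup.relIndex_bot_left, ← Subgroup.relIndex_bot_left, mul_comm,
        Subgroup.relIndex_mul_relIndex _ _ _ bot_le hCN]
    rw [(sylow_arith hd hd2 Q).1, hc] at h
    exact Nat.eq_of_mul_eq_mul_left hq.out.pos (by rw [← h]; ring)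
  · have hker : (Q : Subgroup G).normalizerMonoidHom.ker = C.subgroupOf N :=
      Subgroup.normalizerMonoidHom_ker _
    rw [Subgroup.relIndex, ← hker, Subgroup.index_ker]
    refine (Subgroup.card_subgroup_dvd_card _).trans (dvd_of_eq ?_)
    rw [IsCyclic.card_mulAut, hcardQ, Nat.totient_prime hq.out]

theorem sylow_le_centralizer_iff {q r : ℕ} [Fact q.Prime] [Fact r.Prime] (Q : Sylow q G)
    (R : Sylow r G) :
    (R : Subgroup G) ≤ Subgroup.centralizer ((Q : Subgroup G) : Set G) ↔
      (Q : Subgroup G) ≤ Subgroup.centralizer ((R : Subgroup G) : Set G) :=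
  Subgroup.le_centralizer_iff

open scoped Pointwise in
omit [Finite G] in
theorem smul_le_centralizer (g : G) (A B : Subgroup G) :
    (MulAut.conj g • A : Subgroup G) ≤
        Subgroup.centralizer ((MulAut.conj g • B : Subgroup G) : Set G) ↔
      A ≤ Subgroup.centralizer (B : Set G) := by
  constructor
  · intro h x hx
    rw [Subgroup.mem_centralizer_iff]
    intro y hy
    have h' := Subgroup.mem_centralizer_iff.mp (h (Subgroup.smul_mem_pointwise_smul _ (MulAut.conj g) A hx))
      _ (Subgroup.smul_mem_pointwise_smul _ (MulAut.conj g) B hy)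
    simp only [MulAut.smul_def] at h'
    exact (MulAut.conj g).injective (by rw [map_mul, map_mul]; exact h')
  · intro h x hx
    rw [Subgroup.mem_centralizer_iff]
    intro y hy
    obtain ⟨x', hx', rfl⟩ := hx
    obtain ⟨y', hy', rfl⟩ := hy
    show MulAut.conj g y' * MulAut.conj g x' = MulAut.conj g x' * MulAut.conj g y'
    rw [← map_mul, ← map_mul]
    exact congrArg _ (Subgroup.mem_centralizer_iff.mp (h hx') y' hy')

open scoped Pointwise in
/-- Commuting pairs over one Sylow subgroup. -/
theorem fibre {q r : ℕ} [hq : Fact q.Prime] [hr : Fact r.Prime] (hne : r ≠ q)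
    (hd : q ∣ Nat.card G) (hd2 : ¬ q ^ 2 ∣ Nat.card G) (hr1 : r ∣ Nat.card G)
    (hr2 : ¬ r ^ 2 ∣ Nat.card G) (Q₀ : Sylow q G) {c : ℕ}
    (hc : Nat.card (Subgroup.centralizer ((Q₀ : Subgroup G) : Set G)) = q * c) (hrc : r ∣ c) :
    ∃ a : ℕ, a % r = 1 ∧ a ∣ c / r ∧ ∀ Q : Sylow q G,
      Nat.card {R : Sylow r G // (R : Subgroup G) ≤ Subgroup.centralizer ((Q : Subgroup G) : Set G)}
        = a := by
  classical
  set C := Subgroup.centralizer ((Q₀ : Subgroup G) : Set G) with hC
  have hconst : ∀ Q : Sylow q G,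
      Nat.card {R : Sylow r G // (R : Subgroup G) ≤ Subgroup.centralizer ((Q : Subgroup G) : Set G)}
        = Nat.card {R : Sylow r G // (R : Subgroup G) ≤ C} := by
    intro Q
    obtain ⟨g, rfl⟩ := MulAction.exists_smul_eq G Q₀ Q
    refine (Nat.card_congr (Equiv.subtypeEquiv (MulAction.toPerm g) fun R => ?_)).symm
    simp only [MulAction.toPerm_apply, Sylow.coe_subgroup_smul, hC]
    exact (smul_le_centralizer g _ _).symm
  have e : {R : Sylow r G // (R : Subgroup G) ≤ C} ≃ Sylow r C := by
    refine Equiv.ofBijective (fun R => R.1.subtype R.2) ⟨fun R R' h => ?_, fun S => ?_⟩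
    · refine Subtype.ext (Sylow.ext ?_)
      have h' := congrArg (fun S : Sylow r C => (S : Subgroup C).map C.subtype) h
      simp only [Sylow.coe_subtype, Subgroup.subgroupOf_map_subtype] at h'
      rwa [inf_of_le_left R.2, inf_of_le_left R'.2] at h'
    · have hcardS : Nat.card (S : Subgroup C) = r :=
        sylow_prime (by rw [hc]; exact dvd_mul_of_dvd_right hrc q)
          (fun h => hr2 (h.trans (Subgroup.card_subgroup_dvd_card _))) S
      obtain ⟨R, hR⟩ := (S.2.map C.subtype).exists_le_sylow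
      have hle : (R : Subgroup G) ≤ C := by
        have : (S : Subgroup C).map C.subtype = R := Subgroup.eq_of_le_of_card_ge hR (by
          rw [sylow_prime hr1 hr2 R, Subgroup.card_map_of_injective C.subtype_injective, hcardS])
        rw [← this]; exact Subgroup.map_subtype_le _
      refine ⟨⟨R, hle⟩, Sylow.ext ?_⟩
      rw [Sylow.coe_subtype]
      refine (Subgroup.eq_of_le_of_card_ge (show (S : Subgroup C) ≤ (R : Subgroup G).subgroupOf C
        from fun x hx => hR ⟨x, hx, rfl⟩) ?_).symm
      rw [hcardS, Nat.card_congr (Subgroup.subgroupOfEquivOfLe hle).toEquiv, sylow_prime hr1 hr2 R]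
  refine ⟨Nat.card {R : Sylow r G // (R : Subgroup G) ≤ C}, ?_, ?_, hconst⟩
  · rw [Nat.card_congr e]
    have h := card_sylow_modEq_one r C
    rw [Nat.ModEq, Nat.one_mod_eq_one.mpr hr.out.one_lt.ne'] at h
    exact h
  · obtain ⟨⟨R, hR⟩⟩ : Nonempty {R : Sylow r G // (R : Subgroup G) ≤ C} := by
      rw [← Nat.card_congr e |>.symm.trans rfl] at *
      exact ⟨e.symm (Classical.arbitrary _)⟩
    set S : Sylow r C := R.subtype hR
    rw [Nat.card_congr e, Sylow.card_eq_index_normalizer S]
    set M := Subgroup.normalizer ((S : Subgroup C) : Set C)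
    have hSr : Nat.card (S : Subgroup C) = r := by
      rw [Sylow.coe_subtype, Nat.card_congr (Subgroup.subgroupOfEquivOfLe hR).toEquiv,
        sylow_prime hr1 hr2 R]
    have hQ0C : (Q₀ : Subgroup G) ≤ C := by
      haveI : IsCyclic (Q₀ : Subgroup G) := isCyclic_of_prime_card (sylow_prime hd hd2 Q₀)
      exact fun x hx => Subgroup.mem_centralizer_iff.mpr fun y hy =>
        congrArg Subtype.val (mul_comm' (⟨y, hy⟩ : (Q₀ : Subgroup G)) ⟨x, hx⟩)
    have hQM : (Q₀ : Subgroup G).subgroupOf C ≤ M := by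
      intro x hx
      refine Cfsg.Agent.Coprime.mem_normalizer_of_conj_mem fun y hy => ?_
      have : x * y = y * x := Subtype.ext
        ((Subgroup.mem_centralizer_iff.mp y.2 x (Subgroup.mem_subgroupOf.mp hx)))
      rwa [this, mul_inv_cancel_right]
    have h1 : q * r ∣ Nat.card M := by
      refine (((Nat.coprime_primes hq.out hr.out).mpr hne.symm)).mul_dvd_of_dvd_of_dvd ?_ ?_
      · have := Subgroup.card_dvd_of_le hQM
        rwa [Nat.card_congr (Subgroup.subgroupOfEquivOfLe hQ0C).toEquiv, sylow_prime hd hd2 Q₀]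
          at this
      · exact hSr ▸ Subgroup.card_dvd_of_le Subgroup.le_normalizer
    obtain ⟨t, ht⟩ := h1
    have h2 := Subgroup.card_mul_index M
    rw [hc, ht] at h2
    obtain ⟨c', rfl⟩ := hrc
    rw [Nat.mul_div_cancel_left _ hr.out.pos]
    exact ⟨t, (Nat.eq_of_mul_eq_mul_left (Nat.mul_pos hq.out.pos hr.out.pos)
      (show q * r * c' = q * r * (M.index * t) by rw [mul_assoc q r c', ← h2]; ring))⟩

/-- The pair condition. -/
theorem pair_cond {q r : ℕ} [hq : Fact q.Prime] [hr : Fact r.Prime] (hne : r ≠ q)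
    (hd : q ∣ Nat.card G) (hd2 : ¬ q ^ 2 ∣ Nat.card G) (hr1 : r ∣ Nat.card G)
    (hr2 : ¬ r ^ 2 ∣ Nat.card G)
    (hk : r ∣ Nat.card G / q / Nat.card (Sylow q G)) (hq1 : ¬ r ∣ q - 1) :
    q ∣ Nat.card G / r / Nat.card (Sylow r G) ∧ ∃ a b : ℕ,
      a ∣ Nat.card G / q / Nat.card (Sylow q G) / r ∧ a % r = 1 ∧
      b ∣ Nat.card G / r / Nat.card (Sylow r G) / q ∧ b % q = 1 ∧
      Nat.card (Sylow q G) * a = Nat.card (Sylow r G) * b := by
  classical
  obtain ⟨Q₀⟩ : Nonempty (Sylow q G) := inferInstance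
  obtain ⟨c, m, hc, hcm, hm, -⟩ := centralizer_data hd hd2 Q₀
  have hrc : r ∣ c := ((Nat.Prime.dvd_mul hr.out).mp (hcm ▸ hk)).resolve_right fun h => hq1 (h.trans hm)
  obtain ⟨a, ha1, had, ha⟩ := fibre hne hd hd2 hr1 hr2 Q₀ hc hrc
  obtain ⟨R₀, hR₀⟩ : ∃ R : Sylow r G,
      (R : Subgroup G) ≤ Subgroup.centralizer ((Q₀ : Subgroup G) : Set G) := by
    have hpos : Nat.card {R : Sylow r G // (R : Subgroup G) ≤
        Subgroup.centralizer ((Q₀ : Subgroup G) : Set G)} ≠ 0 := by
      rw [ha Q₀]; intro h; rw [h] at ha1; simp at ha1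
    obtain ⟨x⟩ := (Nat.card_ne_zero.mp hpos).1
    exact ⟨x.1, x.2⟩
  obtain ⟨d, l, hdc, hdl, hl, -⟩ := centralizer_data hr1 hr2 R₀
  have hqd : q ∣ d := by
    have h1 : q ∣ r * d := by
      rw [← hdc, ← sylow_prime hd hd2 Q₀]
      exact Subgroup.card_dvd_of_le ((sylow_le_centralizer_iff Q₀ R₀).mp hR₀)
    exact (((Nat.coprime_primes hq.out hr.out).mpr hne.symm)).dvd_of_dvd_mul_left h1
  obtain ⟨b, hb1, hbd, hb⟩ := fibre hne.symm hr1 hr2 hd hd2 R₀ hdc hqd
  have hdiv : ∀ {x y z p : ℕ}, x * y = z → p ∣ x → ∀ w, w ∣ x / p → w ∣ z / p := by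
    intro x y z p h hp w hw
    rw [← h, mul_comm x y, Nat.mul_div_assoc _ hp]
    exact hw.mul_left y
  refine ⟨hqd.trans ⟨l, hdl.symm⟩, a, b, hdiv hcm hrc _ had, ha1, hdiv hdl hqd _ hbd, hb1, ?_⟩
  letI := Fintype.ofFinite (Sylow q G)
  letI := Fintype.ofFinite (Sylow r G)
  have h1 : Nat.card (Σ Q : Sylow q G, {R : Sylow r G // (R : Subgroup G) ≤
      Subgroup.centralizer ((Q : Subgroup G) : Set G)}) = Nat.card (Sylow q G) * a := by
    rw [Nat.card_sigma, Finset.sum_congr rfl fun Q _ => ha Q, Finset.sum_const, Finset.card_univ,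
      Nat.card_eq_fintype_card, smul_eq_mul]
  have h2 : Nat.card (Σ R : Sylow r G, {Q : Sylow q G // (Q : Subgroup G) ≤
      Subgroup.centralizer ((R : Subgroup G) : Set G)}) = Nat.card (Sylow r G) * b := by
    rw [Nat.card_sigma, Finset.sum_congr rfl fun R _ => hb R, Finset.sum_const, Finset.card_univ,
      Nat.card_eq_fintype_card, smul_eq_mul]
  rw [← h1, ← h2]
  exact Nat.card_congr
    { toFun := fun x => ⟨x.2.1, x.1, (sylow_le_centralizer_iff x.1 x.2.1).mp x.2.2⟩
      invFun := fun x => ⟨x.2.1, x.1, (sylow_le_centralizer_iff x.2.1 x.1).mpr x.2.2⟩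
      left_inv := fun x => rfl
      right_inv := fun x => rfl }

theorem burnside_gcd [IsSimpleGroup G] {q : ℕ} [hq : Fact q.Prime] (hd : q ∣ Nat.card G)
    (hd2 : ¬ q ^ 2 ∣ Nat.card G) (hne : Nat.card G ≠ q) :
    1 < Nat.gcd (q - 1) (Nat.card G / q / Nat.card (Sylow q G)) := by
  obtain ⟨Q⟩ : Nonempty (Sylow q G) := inferInstance
  obtain ⟨c, m, hc, hcm, hm, h1⟩ := centralizer_data hd hd2 Q
  by_contra hlt
  have hpos : 0 < Nat.gcd (q - 1) (Nat.card G / q / Nat.card (Sylow q G)) :=
    Nat.gcd_pos_of_pos_left _ (by have := hq.out.two_le; omega)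
  have hm1 : m = 1 := Nat.dvd_one.mp
    ((Nat.dvd_gcd hm (Dvd.intro_left c hcm)).trans
      (dvd_of_eq (show Nat.gcd (q - 1) (Nat.card G / q / Nat.card (Sylow q G)) = 1 by omega)))
  obtain ⟨P, N, hN, hcompl⟩ :=
    Cfsg.Agent.Transfer.hasNormalPComplement_of_normalizer_le_centralizer Q (h1 hm1)
  rcases hN.eq_bot_or_eq_top with h | h
  · refine hne ?_
    have := hcompl.card_mul
    rw [h, Subgroup.card_bot, one_mul, sylow_prime hd hd2 P] at this
    exact this.symm
  · have := hcompl.card_mul
    rw [h, Subgroup.card_top, sylow_prime hd hd2 P] at this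
    exact absurd ((Nat.mul_eq_left Nat.card_pos.ne').mp this) hq.out.one_lt.ne'

/-- Elements of order divisible by `q`. -/
theorem weight_le {q : ℕ} [hq : Fact q.Prime] (hd : q ∣ Nat.card G)
    (hd2 : ¬ q ^ 2 ∣ Nat.card G) :
    weight (Nat.card G) (q, Nat.card (Sylow q G)) ≤ Nat.card {x : G // q ∣ orderOf x} := by
  classical
  obtain ⟨Q₀⟩ : Nonempty (Sylow q G) := inferInstance
  obtain ⟨c, m, hc, hcm, hm, -⟩ := centralizer_data hd hd2 Q₀
  letI := Fintype.ofFinite (Sylow q G)
  have hle : weight (Nat.card G) (q, Nat.card (Sylow q G)) ≤ Nat.card (Sylow q G) * ((q - 1) * c) := by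
    simp only [weight]
    rw [mul_assoc]
    refine Nat.mul_le_mul_left _ (Nat.mul_le_mul_left _ ?_)
    have hmg : m ∣ Nat.gcd (q - 1) (Nat.card G / q / Nat.card (Sylow q G)) :=
      Nat.dvd_gcd hm (Dvd.intro_left c hcm)
    have hg : 0 < Nat.gcd (q - 1) (Nat.card G / q / Nat.card (Sylow q G)) :=
      Nat.gcd_pos_of_pos_left _ (by have := hq.out.two_le; omega)
    calc Nat.card G / q / Nat.card (Sylow q G) / Nat.gcd (q - 1) (Nat.card G / q / Nat.card (Sylow q G))
        ≤ Nat.card G / q / Nat.card (Sylow q G) / m :=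
          Nat.div_le_div_left (Nat.le_of_dvd hg hmg) (Nat.pos_of_dvd_of_pos hm (by have := hq.out.two_le; omega))
      _ = c := by rw [← hcm, Nat.mul_div_cancel _ (Nat.pos_of_dvd_of_pos hm (by have := hq.out.two_le; omega))]
  refine hle.trans ?_
  have hcQ : ∀ Q : Sylow q G,
      Nat.card (Subgroup.centralizer ((Q : Subgroup G) : Set G)) = q * c := by
    intro Q
    obtain ⟨g, rfl⟩ := MulAction.exists_smul_eq G Q₀ Q
    rw [← hc]
    refine (Nat.card_congr (Equiv.subtypeEquiv (MulAut.conj g).toEquiv fun x => ?_)).symm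
    simp only [Subgroup.mem_centralizer_iff, Sylow.coe_subgroup_smul, SetLike.mem_coe,
      MulEquiv.toEquiv_eq_coe, EquivLike.coe_coe, Subgroup.mem_pointwise_smul_iff_inv_smul_mem]
    constructor
    · intro h y hy
      have h' := h _ hy
      simp only [MulAut.smul_def, MulAut.conj_inv_apply, MulAut.conj_apply] at h' ⊢
      calc y * (g * x * g⁻¹) = g * ((g⁻¹ * y * g) * x) * g⁻¹ := by group
        _ = g * (x * (g⁻¹ * y * g)) * g⁻¹ := by rw [h']
        _ = g * x * g⁻¹ * y := by group
    · intro h y hy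
      have h' := h (g * y * g⁻¹) (by
        simp only [MulAut.smul_def, MulAut.conj_inv_apply]
        simpa [mul_assoc] using hy)
      simp only [MulAut.conj_apply] at h'
      calc y * x = g⁻¹ * ((g * y * g⁻¹) * (g * x * g⁻¹)) * g := by group
        _ = g⁻¹ * ((g * x * g⁻¹) * (g * y * g⁻¹)) * g := by rw [h']
        _ = x * y := by group
  -- the injection
  let T : Sylow q G → Type _ := fun Q =>
    {x : Subgroup.centralizer ((Q : Subgroup G) : Set G) // x ^ c ≠ 1}
  have hpow : ∀ (Q : Sylow q G) (x : Subgroup.centralizer ((Q : Subgroup G) : Set G)),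
      (x : G) ^ c ∈ (Q : Subgroup G) := by
    intro Q
    have hQc := sylow_prime hd hd2 Q
    set C := Subgroup.centralizer ((Q : Subgroup G) : Set G) with hC
    intro x
    have hQC : (Q : Subgroup G) ≤ C := by
      haveI : IsCyclic (Q : Subgroup G) := isCyclic_of_prime_card hQc
      exact fun y hy => Subgroup.mem_centralizer_iff.mpr fun z hz =>
        congrArg Subtype.val (mul_comm' (⟨z, hz⟩ : (Q : Subgroup G)) ⟨y, hy⟩)
    haveI : ((Q : Subgroup G).subgroupOf C).Normal :=
      Subgroup.normal_subgroupOf_iff_le_normalizer hQC |>.mpr (Subgroup.centralizer_le_normalizer _)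
    have hi : ((Q : Subgroup G).subgroupOf C).index = c := by
      have h := ((Q : Subgroup G).subgroupOf C).card_mul_index
      rw [Nat.card_congr (Subgroup.subgroupOfEquivOfLe hQC).toEquiv, hQc, hcQ Q] at h
      exact Nat.eq_of_mul_eq_mul_left hq.out.pos h
    have h := Subgroup.pow_index_mem ((Q : Subgroup G).subgroupOf C) x
    rw [hi, Subgroup.mem_subgroupOf] at h
    simpa using h
  have hcardT : ∀ Q : Sylow q G, (q - 1) * c ≤ Nat.card (T Q) := by
    intro Q
    set C := Subgroup.centralizer ((Q : Subgroup G) : Set G) with hC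
    letI := Fintype.ofFinite C
    have hcC : ¬ q ∣ c := by
      intro h
      refine hd2 ?_
      refine (?_ : q ^ 2 ∣ Nat.card C).trans (Subgroup.card_subgroup_dvd_card C)
      rw [hcQ Q, pow_two]; exact Nat.mul_dvd_mul_left q h
    obtain ⟨t, ht⟩ : ∃ t : C, orderOf t = q :=
      exists_prime_orderOf_dvd_card' (G := C) q ⟨c, hcQ Q⟩
    have htc : ∀ x : C, x ^ c = 1 → ∀ i : Fin (q - 1), (t ^ (i.1 + 1) * x) ^ c ≠ 1 := by
      intro x hx i h
      have hcom : Commute (t ^ (i.1 + 1)) x := by
        refine Commute.pow_left ?_ _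
        have htQ : (t : G) ∈ (Q : Subgroup G) := by
          have h1 := hpow Q t
          have hco : Nat.Coprime c (orderOf (t : G)) := by
            rw [Subgroup.orderOf_coe, ht]; exact ((hq.out.coprime_iff_not_dvd).mpr hcC).symm
          obtain ⟨u, hu⟩ := exists_pow_eq_self_of_coprime hco
          rw [← hu]; exact pow_mem h1 u
        exact Subtype.ext (Subgroup.mem_centralizer_iff.mp x.2 _ htQ)
      rw [hcom.mul_pow, hx, mul_one, ← pow_mul] at h
      have h3 := orderOf_dvd_of_pow_eq_one h
      rw [ht] at h3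
      rcases (Nat.Prime.dvd_mul hq.out).mp h3 with h4 | h4
      · have := Nat.le_of_dvd (by omega) h4
        have := i.2
        omega
      · exact hcC h4
    -- the kernel of `x ↦ x ^ c` has at least `c` elements
    have hK : c ≤ Nat.card {x : C // x ^ c = 1} := by
      by_contra hlt
      push Not at hlt
      let f : C → (Q : Subgroup G) := fun x => ⟨(x : G) ^ c, hpow Q x⟩
      have hfib : ∀ y : (Q : Subgroup G), Nat.card {x : C // f x = y} ≤ Nat.card {x : C // x ^ c = 1} := by
        intro y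
        by_cases hy : ∃ x : C, f x = y
        · obtain ⟨x₀, hx₀⟩ := hy
          have hy1 : (x₀ : G) ^ c = y := congrArg Subtype.val hx₀
          obtain ⟨u, hu⟩ : ∃ u : ℕ, ((y : G) ^ u) ^ c = y := by
            have hco : Nat.Coprime c (orderOf (y : G)) := by
              refine Nat.Coprime.coprime_dvd_right (Subgroup.orderOf_dvd_natCard _ y.2) ?_
              rw [sylow_prime hd hd2 Q]; exact ((hq.out.coprime_iff_not_dvd).mpr hcC).symm
            obtain ⟨u, hu⟩ := exists_pow_eq_self_of_coprime hco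
            exact ⟨u, by rw [← pow_mul, mul_comm, pow_mul]; exact hu⟩
          have hyC : (y : G) ^ u ∈ C := pow_mem (by
            rw [← hy1]; exact pow_mem x₀.2 c) u
          refine Nat.card_le_card_of_injective
            (fun x => ⟨⟨(y : G) ^ u, hyC⟩⁻¹ * x.1, ?_⟩) ?_
          · have hcom : Commute (⟨(y : G) ^ u, hyC⟩⁻¹ : C) x.1 := by
              refine Commute.inv_left (Subtype.ext ?_)
              exact Subgroup.mem_centralizer_iff.mp x.1.2 _ (pow_mem y.2 u)
            rw [hcom.mul_pow]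
            have hx := congrArg Subtype.val x.2
            refine Subtype.ext ?_
            push_cast
            rw [inv_pow, hu, show ((x.1 : C) : G) ^ c = (y : G) from hx, inv_mul_cancel]
          · intro x x' h
            exact Subtype.ext (mul_left_cancel (congrArg Subtype.val h))
        · rw [Nat.card_eq_zero.mpr (Or.inl ⟨fun x => hy ⟨x.1, x.2⟩⟩)]; exact Nat.zero_le _
      letI := Fintype.ofFinite (Q : Subgroup G)
      have hsum : Nat.card C ≤ q * Nat.card {x : C // x ^ c = 1} := by
        rw [← Nat.card_congr (Equiv.sigmaFiberEquiv f), Nat.card_sigma]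
        refine (Finset.sum_le_sum fun y _ => hfib y).trans (le_of_eq ?_)
        rw [Finset.sum_const, Finset.card_univ, smul_eq_mul, ← Nat.card_eq_fintype_card,
          sylow_prime hd hd2 Q]
      rw [hcQ Q] at hsum
      exact absurd (Nat.le_of_mul_le_mul_left hsum hq.out.pos) (not_le.mpr hlt)
    refine (Nat.mul_le_mul_left _ hK).trans ?_
    calc (q - 1) * Nat.card {x : C // x ^ c = 1}
        = Nat.card (Fin (q - 1) × {x : C // x ^ c = 1}) := by
          rw [Nat.card_prod, Nat.card_fin]
      _ ≤ Nat.card (T Q) := by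
          refine Nat.card_le_card_of_injective
            (fun p => ⟨t ^ (p.1.1 + 1) * p.2.1, htc p.2.1 p.2.2 p.1⟩) ?_
          rintro ⟨i, x, hx⟩ ⟨j, y, hy⟩ h
          have h' : t ^ (i.1 + 1) * x = t ^ (j.1 + 1) * y := congrArg Subtype.val h
          have htQ : ∀ z : C, Commute t z := by
            intro z
            have h1 := hpow Q t
            have hco : Nat.Coprime c (orderOf (t : G)) := by
              rw [Subgroup.orderOf_coe, ht]; exact ((hq.out.coprime_iff_not_dvd).mpr hcC).symm
            obtain ⟨u, hu⟩ := exists_pow_eq_self_of_coprime hco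
            exact Subtype.ext
              (Subgroup.mem_centralizer_iff.mp z.2 _ (hu ▸ pow_mem h1 u))
          have hpw := congrArg (· ^ c) h'
          simp only [((htQ x).pow_left _).mul_pow, ((htQ y).pow_left _).mul_pow, hx, hy, mul_one,
            ← pow_mul] at hpw
          rw [pow_inj_mod, ht] at hpw
          have hij : (i.1 + 1) % q = (j.1 + 1) % q :=
            Nat.ModEq.cancel_right_of_coprime (c := c) ((hq.out.coprime_iff_not_dvd).mpr hcC) hpw
          have := i.2
          have := j.2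
          rw [Nat.mod_eq_of_lt (by omega), Nat.mod_eq_of_lt (by omega)] at hij
          have hij' : i = j := Fin.ext (by omega)
          subst hij'
          exact Prod.ext rfl (Subtype.ext (mul_left_cancel h'))
  calc Nat.card (Sylow q G) * ((q - 1) * c) = ∑ _Q : Sylow q G, (q - 1) * c := by
        rw [Finset.sum_const, Finset.card_univ, Nat.card_eq_fintype_card, smul_eq_mul]
    _ ≤ ∑ Q : Sylow q G, Nat.card (T Q) := Finset.sum_le_sum fun Q _ => hcardT Q
    _ = Nat.card (Σ Q : Sylow q G, T Q) := (Nat.card_sigma).symm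
    _ ≤ Nat.card {x : G // q ∣ orderOf x} := by
        refine Nat.card_le_card_of_injective (fun p => ⟨p.2.1.1, ?_⟩) ?_
        · have hne : (p.2.1.1 : G) ^ c ≠ 1 := fun h => p.2.2 (Subtype.ext (by simpa using h))
          have ho : orderOf ((p.2.1.1 : G) ^ c) = q := by
            have h1 := Subgroup.orderOf_dvd_natCard _ (hpow p.1 p.2.1)
            rw [sylow_prime hd hd2 p.1] at h1
            exact ((Nat.dvd_prime hq.out).mp h1).resolve_left fun h => hne (orderOf_eq_one_iff.mp h)
          exact (dvd_of_eq ho.symm).trans (orderOf_pow_dvd c)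
        · rintro ⟨Q, x⟩ ⟨Q', y⟩ h
          have hxy : (x.1.1 : G) = y.1.1 := congrArg Subtype.val h
          have hne : (x.1.1 : G) ^ c ≠ 1 := fun h' => x.2 (Subtype.ext (by simpa using h'))
          have hQQ : Q = Q' := by
            have gen : ∀ S : Sylow q G, (x.1.1 : G) ^ c ∈ (S : Subgroup G) →
                Subgroup.zpowers ((x.1.1 : G) ^ c) = (S : Subgroup G) := by
              intro S hS
              refine Subgroup.eq_of_le_of_card_ge (Subgroup.zpowers_le.mpr hS) ?_
              rw [sylow_prime hd hd2 S, Nat.card_zpowers]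
              have h1 := Subgroup.orderOf_dvd_natCard _ hS
              rw [sylow_prime hd hd2 S] at h1
              exact (((Nat.dvd_prime hq.out).mp h1).resolve_left
                fun h' => hne (orderOf_eq_one_iff.mp h')).ge
            exact Sylow.ext ((gen Q (hpow Q x.1)).symm.trans (gen Q' (hxy ▸ hpow Q' y.1)))
          subst hQQ
          exact Sigma.ext rfl (heq_of_eq (Subtype.ext (Subtype.ext hxy)))

theorem dvd_k_of_common {q r : ℕ} [hq : Fact q.Prime] [hr : Fact r.Prime] (hne : r ≠ q)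
    (hd : q ∣ Nat.card G) (hd2 : ¬ q ^ 2 ∣ Nat.card G)
    {x : G} (hxq : q ∣ orderOf x) (hxr : r ∣ orderOf x) :
    r ∣ Nat.card G / q / Nat.card (Sylow q G) := by
  set y := x ^ (orderOf x / q) with hy
  have hyo : orderOf y = q := orderOf_pow_orderOf_div (orderOf_pos x).ne' hxq
  obtain ⟨Q, hQ⟩ := (IsPGroup.of_card (p := q) (n := 1) (by rw [Nat.card_zpowers, hyo, pow_one]) :
    IsPGroup q (Subgroup.zpowers y)).exists_le_sylow
  have hQy : (Q : Subgroup G) = Subgroup.zpowers y :=
    (Subgroup.eq_of_le_of_card_ge hQ (by rw [sylow_prime hd hd2 Q, Nat.card_zpowers, hyo])).symm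
  have hxC : x ∈ Subgroup.normalizer ((Q : Subgroup G) : Set G) := by
    refine Cfsg.Agent.Coprime.mem_normalizer_of_conj_mem fun z hz => ?_
    rw [hQy] at hz ⊢
    obtain ⟨i, rfl⟩ := Subgroup.mem_zpowers_iff.mp hz
    rw [(((Commute.refl x).pow_right _).zpow_right i).eq, mul_inv_cancel_right]
    exact hz
  have h := Subgroup.orderOf_dvd_natCard _ hxC
  rw [(sylow_arith hd hd2 Q).1] at h
  exact (((Nat.coprime_primes hr.out hq.out).mpr hne)).dvd_of_dvd_mul_left (hxr.trans h)

/-- Three disjoint sets of elements. -/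
theorem triple_count {a b c : ℕ}
    (hab : ∀ x : G, ¬ (a ∣ orderOf x ∧ b ∣ orderOf x))
    (hac : ∀ x : G, ¬ (a ∣ orderOf x ∧ c ∣ orderOf x))
    (hbc : ∀ x : G, ¬ (b ∣ orderOf x ∧ c ∣ orderOf x))
    (ha : 1 < a) (hb : 1 < b) (hc : 1 < c) :
    1 + Nat.card {x : G // a ∣ orderOf x} + Nat.card {x : G // b ∣ orderOf x} +
      Nat.card {x : G // c ∣ orderOf x} ≤ Nat.card G := by
  classical
  letI := Fintype.ofFinite G
  simp only [Nat.card_eq_fintype_card, Fintype.card_subtype]
  have h1 : Disjoint ({1} : Finset G) ({x : G | a ∣ orderOf x} : Finset G) := by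
    simp only [Finset.disjoint_singleton_left, Finset.mem_filter, Finset.mem_univ, true_and,
      orderOf_one, Nat.dvd_one]
    omega
  have h2 : Disjoint (({1} : Finset G) ∪ ({x : G | a ∣ orderOf x} : Finset G))
      ({x : G | b ∣ orderOf x} : Finset G) := by
    rw [Finset.disjoint_union_left]
    refine ⟨?_, Finset.disjoint_filter.mpr fun x _ hx hx' => hab x ⟨hx, hx'⟩⟩
    simp only [Finset.disjoint_singleton_left, Finset.mem_filter, Finset.mem_univ, true_and,
      orderOf_one, Nat.dvd_one]
    omega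
  have h3 : Disjoint (({1} : Finset G) ∪ ({x : G | a ∣ orderOf x} : Finset G) ∪
      ({x : G | b ∣ orderOf x} : Finset G)) ({x : G | c ∣ orderOf x} : Finset G) := by
    rw [Finset.disjoint_union_left, Finset.disjoint_union_left]
    refine ⟨⟨?_, Finset.disjoint_filter.mpr fun x _ hx hx' => hac x ⟨hx, hx'⟩⟩,
      Finset.disjoint_filter.mpr fun x _ hx hx' => hbc x ⟨hx, hx'⟩⟩
    simp only [Finset.disjoint_singleton_left, Finset.mem_filter, Finset.mem_univ, true_and,
      orderOf_one, Nat.dvd_one]
    omega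
  have h := Finset.card_le_univ (({1} : Finset G) ∪ ({x : G | a ∣ orderOf x} : Finset G) ∪
      ({x : G | b ∣ orderOf x} : Finset G) ∪ ({x : G | c ∣ orderOf x} : Finset G))
  rwa [Finset.card_union_of_disjoint h3, Finset.card_union_of_disjoint h2,
    Finset.card_union_of_disjoint h1, Finset.card_singleton] at h

/-- With twenty Sylow `19`-subgroups the normaliser of one has odd order. -/
theorem parity [IsSimpleGroup G] [Fact (Nat.Prime 19)] (hd : 19 ∣ Nat.card G)
    (hd2 : ¬ 19 ^ 2 ∣ Nat.card G) (hn : Nat.card (Sylow 19 G) = 20)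
    (hne : Nat.card G ≠ 19) :
    Nat.card G / 19 / Nat.card (Sylow 19 G) % 2 ≠ 0 := by
  classical
  intro heven
  haveI : Fact (Nat.Prime 2) := ⟨Nat.prime_two⟩
  obtain ⟨R⟩ : Nonempty (Sylow 19 G) := inferInstance
  have hN := (sylow_arith hd hd2 R).1
  obtain ⟨⟨t, htN⟩, ht⟩ := exists_prime_orderOf_dvd_card'
    (G := Subgroup.normalizer ((R : Subgroup G) : Set G)) 2
    (hN ▸ dvd_mul_of_dvd_right (Nat.dvd_of_mod_eq_zero heven) 19)
  rw [Subgroup.orderOf_mk] at ht
  letI := Fintype.ofFinite (Sylow 19 G)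
  let φ := MulAction.toPermHom G (Sylow 19 G)
  have hne2 : Nat.card G ≠ 2 := fun h => by rw [h] at hd; norm_num at hd
  have hsign : ∀ g : G, Equiv.Perm.sign (φ g) = 1 := by
    intro g
    rcases ((Equiv.Perm.sign.comp φ).normal_ker).eq_bot_or_eq_top with h | h
    · exfalso
      have h1 : Nat.card G ∣ Nat.card ℤˣ :=
        Subgroup.card_dvd_of_injective (Equiv.Perm.sign.comp φ)
          ((MonoidHom.ker_eq_bot_iff _).mp h)
      rw [Nat.card_eq_fintype_card (α := ℤˣ), Fintype.card_units_int] at h1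
      rcases (Nat.dvd_prime Nat.prime_two).mp h1 with h2 | h2
      · rw [h2] at hd; norm_num at hd
      · exact hne2 h2
    · exact (SetLike.ext_iff.mp h g).mpr trivial
  have hinj : Function.Injective φ := by
    rcases φ.normal_ker.eq_bot_or_eq_top with h | h
    · exact (MonoidHom.ker_eq_bot_iff _).mp h
    · exfalso
      have hfix : ∀ g : G, g • R = R := fun g => Equiv.Perm.congr_fun ((SetLike.ext_iff.mp h g).mpr trivial) R
      exact not_normal_of_simple hd hne hd2 R
        (Subgroup.normalizer_eq_top_iff.mp (eq_top_iff.mpr fun g _ => Sylow.smul_eq_iff_mem_normalizer.mp (hfix g)))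
  have htR : t • R = R := Sylow.smul_eq_iff_mem_normalizer.mpr htN
  -- the other members
  have hfree : ∀ (S : Sylow 19 G), S ≠ R → ∀ r ∈ (R : Subgroup G), r • S = S → r = 1 := by
    intro S hS r hr hrS
    by_contra hr1
    have hrSm : r ∈ (S : Subgroup G) := by
      have h1 : r ∈ Subgroup.normalizer ((S : Subgroup G) : Set G) :=
        Sylow.smul_eq_iff_mem_normalizer.mp hrS
      have ho : IsPGroup 19 (Subgroup.zpowers r) :=
        (R.2.to_le (Subgroup.zpowers_le.mpr hr))
      have h2 := ho.inf_normalizer_sylow S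
      exact ((le_of_eq h2) ⟨Subgroup.mem_zpowers r, h1⟩).2
    refine hS (Sylow.ext ?_)
    have gen : ∀ U : Sylow 19 G, r ∈ (U : Subgroup G) → Subgroup.zpowers r = (U : Subgroup G) := by
      intro U hU
      refine Subgroup.eq_of_le_of_card_ge (Subgroup.zpowers_le.mpr hU) ?_
      rw [sylow_prime hd hd2 U, Nat.card_zpowers]
      have h1 := Subgroup.orderOf_dvd_natCard _ hU
      rw [sylow_prime hd hd2 U] at h1
      exact (((Nat.dvd_prime (by norm_num)).mp h1).resolve_left
        fun h => hr1 (orderOf_eq_one_iff.mp h)).ge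
    rw [← gen S hrSm, gen R hr]
  have htrans : ∀ S T : Sylow 19 G, S ≠ R → T ≠ R → ∃ r ∈ (R : Subgroup G), r • S = T := by
    intro S T hS hT
    letI := Fintype.ofFinite (R : Subgroup G)
    let f : ↥(R : Subgroup G) → {U : Sylow 19 G // U ≠ R} := fun r => ⟨(r : G) • S, fun h => hS (by
      have hr : (r : G)⁻¹ • R = R := Sylow.smul_eq_iff_mem_normalizer.mpr
        (inv_mem (Subgroup.le_normalizer r.2))
      rw [← inv_smul_smul (r : G) S, h, hr])⟩
    have hf : Function.Injective f := by
      intro r r' h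
      have h' : (r : G) • S = (r' : G) • S := congrArg Subtype.val h
      have h1 : ((r' : G)⁻¹ * r) • S = S := by rw [mul_smul, h', inv_smul_smul]
      exact Subtype.ext (inv_mul_eq_one.mp (hfree S hS _ (mul_mem (inv_mem r'.2) r.2) h1)).symm
    have hb : Function.Bijective f := by
      refine hf.bijective_of_nat_card_le ?_
      rw [sylow_prime hd hd2 R, Nat.card_eq_fintype_card, Fintype.card_subtype_compl,
        Fintype.card_subtype_eq, ← Nat.card_eq_fintype_card, hn]
    obtain ⟨r, hr⟩ := hb.2 ⟨T, hT⟩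
    exact ⟨r, r.2, congrArg Subtype.val hr⟩
  set σ := φ t with hσ
  have hσ2 : σ ^ 2 = 1 := by rw [hσ, ← map_pow, ← ht, pow_orderOf_eq_one, map_one]
  have hσ1 : σ ≠ 1 := fun h => by
    have ht1 : t = 1 := hinj (h.trans (map_one φ).symm)
    rw [ht1, orderOf_one] at ht
    omega
  -- `t` inverts `R`
  have hct : ∀ r ∈ (R : Subgroup G), t * r * t⁻¹ = r⁻¹ := by
    haveI : IsCyclic (R : Subgroup G) := isCyclic_of_prime_card (sylow_prime hd hd2 R)
    obtain ⟨⟨r0, hr0⟩, hgen⟩ := IsCyclic.exists_generator (α := (R : Subgroup G))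
    have hconj : t * r0 * t⁻¹ ∈ (R : Subgroup G) :=
      (Subgroup.mem_normalizer_iff.mp htN r0).mp hr0
    obtain ⟨s, hs⟩ := Subgroup.mem_zpowers_iff.mp (hgen ⟨_, hconj⟩)
    have hs' : r0 ^ s = t * r0 * t⁻¹ := by simpa using congrArg Subtype.val hs
    have h19 : orderOf r0 = 19 := by
      rw [← sylow_prime hd hd2 R, ← Subgroup.orderOf_mk r0 hr0]
      exact orderOf_eq_card_of_forall_mem_zpowers hgen
    have hss : (19 : ℤ) ∣ s * s - 1 := by
      have htt : t * t = 1 := by rw [← pow_two, ← ht, pow_orderOf_eq_one]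
      have h1 : r0 ^ (s * s) = r0 := by
        rw [zpow_mul, hs', conj_zpow, hs',
          show t * (t * r0 * t⁻¹) * t⁻¹ = (t * t) * r0 * (t * t)⁻¹ by group, htt]
        group
      have h2 : r0 ^ (s * s - 1) = 1 := by rw [zpow_sub, h1, zpow_one, mul_inv_cancel]
      rw [← orderOf_dvd_iff_zpow_eq_one, h19] at h2
      exact_mod_cast h2
    have hsi : (19 : ℤ) ∣ (s - 1) * (s + 1) := by
      rw [show (s - 1) * (s + 1) = s * s - 1 by ring]; exact hss
    rcases (Nat.prime_iff_prime_int.mp (by norm_num : Nat.Prime 19)).dvd_mul.mp hsi with h | h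
    · -- centralising: `t` would act trivially
      exfalso
      have hc : t * r0 * t⁻¹ = r0 := by
        rw [← hs']
        have h2 : r0 ^ (s - 1) = 1 := orderOf_dvd_iff_zpow_eq_one.mp (by rw [h19]; exact_mod_cast h)
        rw [zpow_sub, zpow_one, mul_inv_eq_one] at h2
        exact h2
      have hcR : ∀ r ∈ (R : Subgroup G), t * r = r * t := by
        intro r hr
        obtain ⟨i, hi⟩ := Subgroup.mem_zpowers_iff.mp (hgen ⟨r, hr⟩)
        have hi' : r0 ^ i = r := by simpa using congrArg Subtype.val hi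
        rw [← hi']
        exact ((show Commute t r0 from mul_inv_eq_iff_eq_mul.mp hc).zpow_right i).eq
      obtain ⟨S, hSR, hS⟩ : ∃ S : Sylow 19 G, S ≠ R ∧ t • S = S := by
        have hfx := Equiv.Perm.exists_fixed_point_of_prime (p := 2) (n := 1)
          (α := {U : Sylow 19 G // U ≠ R})
          (by rw [Fintype.card_subtype_compl, Fintype.card_subtype_eq,
            ← Nat.card_eq_fintype_card, hn]; norm_num)
          (σ := (σ.subtypePerm fun U => by
            show φ t U ≠ R ↔ U ≠ R
            rw [MulAction.toPermHom_apply, MulAction.toPerm_apply, not_iff_not]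
            exact ⟨fun hU => by rw [← inv_smul_smul t U, hU, inv_smul_eq_iff, htR],
              fun hU => by rw [hU, htR]⟩))
          (by
            refine Equiv.ext fun U => Subtype.ext ?_
            show ((σ.subtypePerm _ ^ 2 ^ 1) U : Sylow 19 G) = U
            rw [pow_one, Equiv.Perm.subtypePerm_pow, Equiv.Perm.subtypePerm_apply]
            exact Equiv.Perm.congr_fun hσ2 U.1)
        obtain ⟨U, hU⟩ := hfx
        exact ⟨U.1, U.2, congrArg Subtype.val hU⟩
      refine hσ1 (Equiv.ext fun T => ?_)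
      show t • T = T
      by_cases hT : T = R
      · rw [hT, htR]
      · obtain ⟨r, hr, rfl⟩ := htrans S T hSR hT
        rw [← mul_smul, hcR r hr, mul_smul, hS]
    · intro r hr
      obtain ⟨i, hi⟩ := Subgroup.mem_zpowers_iff.mp (hgen ⟨r, hr⟩)
      have hi' : r0 ^ i = r := by simpa using congrArg Subtype.val hi
      have h2 : r0 ^ (s + 1) = 1 := orderOf_dvd_iff_zpow_eq_one.mp (by rw [h19]; exact_mod_cast h)
      rw [zpow_add, zpow_one] at h2
      rw [← hi', ← conj_zpow, ← hs', eq_inv_of_mul_eq_one_left h2, inv_zpow]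
  have huniq : ∀ S T : Sylow 19 G, S ≠ R → T ≠ R → t • S = S → t • T = T → S = T := by
    intro S T hS hT hfS hfT
    obtain ⟨r, hr, rfl⟩ := htrans S T hS hT
    have h1 : r⁻¹ • S = r • S := by
      conv_rhs => rw [← hfT]
      rw [← hct r hr, mul_smul, mul_smul,
        show t⁻¹ • S = S from by rw [inv_smul_eq_iff, hfS]]
    have h2 : (r * r) • S = S := by rw [mul_smul, ← h1, smul_inv_smul]
    have h3 := hfree S hS _ (mul_mem hr hr) h2
    have hr1 : r = 1 := by
      have ho : orderOf r ∣ 2 := orderOf_dvd_of_pow_eq_one (by rw [pow_two]; exact h3)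
      have ho' := Subgroup.orderOf_dvd_natCard _ hr
      rw [sylow_prime hd hd2 R] at ho'
      exact orderOf_eq_one_iff.mp (Nat.dvd_one.mp (Nat.dvd_gcd ho ho'))
    rw [hr1, one_smul]
  -- count the support
  have hsupp : σ.supportᶜ.card ≤ 2 := by
    by_contra hlt
    obtain ⟨A, B, C, hA, hB, hC, hAB, hAC, hBC⟩ := Finset.two_lt_card_iff.mp (not_le.mp hlt)
    have hfix : ∀ U ∈ σ.supportᶜ, t • U = U := fun U hU => by
      have : σ U = U := by simpa [Equiv.Perm.mem_support] using Finset.mem_compl.mp hU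
      exact this
    by_cases hAR : A = R
    · exact hBC (huniq B C (hAR ▸ hAB.symm) (hAR ▸ hAC.symm) (hfix B hB) (hfix C hC))
    · by_cases hBR : B = R
      · exact hAC (huniq A C hAR (hBR ▸ hBC.symm) (hfix A hA) (hfix C hC))
      · exact hAB (huniq A B hAR hBR (hfix A hA) (hfix B hB))
  have hR : R ∈ σ.supportᶜ := by
    rw [Finset.mem_compl, Equiv.Perm.mem_support, not_not]; exact htR
  have hcard := Finset.card_compl σ.support
  rw [← Nat.card_eq_fintype_card, hn] at hcard
  have hle : σ.support.card ≤ 20 := by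
    rw [← hn, Nat.card_eq_fintype_card]; exact Finset.card_le_univ _
  have hpos : 0 < σ.supportᶜ.card := Finset.card_pos.mpr ⟨R, hR⟩
  have hσsign := hsign t
  have hcyc : ∀ n ∈ σ.cycleType, n = 2 := fun n hn' => by
    have h2 := Equiv.Perm.two_le_of_mem_cycleType hn'
    have hdv := (Equiv.Perm.dvd_of_mem_cycleType hn').trans (orderOf_dvd_of_pow_eq_one hσ2)
    have := Nat.le_of_dvd two_pos hdv
    omega
  have hsum := σ.sum_cycleType
  rw [Multiset.eq_replicate_card.mpr hcyc, Multiset.sum_replicate, smul_eq_mul] at hsum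
  have h9 : Multiset.card σ.cycleType = 9 := by omega
  rw [← hσ, Equiv.Perm.sign_of_cycleType, Multiset.eq_replicate_card.mpr hcyc,
    Multiset.sum_replicate, Multiset.card_replicate, h9] at hσsign
  exact absurd hσsign (by decide)

/-- Soundness of the search. -/
theorem search_sound [IsSimpleGroup G] (hd : Nat.card G ∣ 175560) (hne : ∀ q, Nat.card G = q → ¬ q.Prime) :
    ∀ (qs : List ℕ) (cur : List (ℕ × ℕ)), (∀ q ∈ qs, q ∈ [19, 11, 7, 5, 3]) →
      (∀ p ∈ cur, p.1 ∈ [19, 11, 7, 5, 3] ∧ p.1 ∣ Nat.card G ∧ p.2 = Nat.card (Sylow p.1 G) ∧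
        p.1 ∉ qs) →
      qs.Nodup → search (Nat.card G) qs cur = true → False := by
  have hprime : ∀ q ∈ [19, 11, 7, 5, 3], q.Prime ∧ ¬ q ^ 2 ∣ Nat.card G := by
    intro q hq
    fin_cases hq <;>
      exact ⟨by norm_num, fun h => by have := h.trans hd; norm_num at this⟩
  intro qs
  induction qs with
  | nil =>
    intro cur _ hcur _ h
    have key : ∀ a b c : ℕ, a ≠ b → a ≠ c → b ≠ c → killTriple (Nat.card G) a b c cur = true →
        False := by
      intro a b c hab hac hbc hk
      simp only [killTriple, List.any_eq_true, Bool.and_eq_true, beq_iff_eq, decide_eq_true_eq]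
        at hk
      obtain ⟨x, hx, rfl, y, hy, rfl, z, hz, ⟨⟨⟨rfl, hxy⟩, hxz⟩, hyz⟩, hlt⟩ := hk
      obtain ⟨xm, hxd, hx2, -⟩ := hcur x hx
      obtain ⟨ym, hyd, hy2, -⟩ := hcur y hy
      obtain ⟨zm, hzd, hz2, -⟩ := hcur z hz
      haveI := Fact.mk (hprime _ xm).1
      haveI := Fact.mk (hprime _ ym).1
      haveI := Fact.mk (hprime _ zm).1
      simp only [apart, Bool.and_eq_true, bne_iff_ne, ne_eq] at hxy hxz hyz
      rw [hx2] at hxy hxz
      rw [hy2] at hyz
      have hd' : ∀ {q r : ℕ} [Fact q.Prime] [Fact r.Prime], r ≠ q → q ∣ Nat.card G →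
          ¬ q ^ 2 ∣ Nat.card G → ¬ (Nat.card G / q / Nat.card (Sylow q G)) % r = 0 →
          ∀ g : G, ¬ (q ∣ orderOf g ∧ r ∣ orderOf g) :=
        fun hne' h1 h2 h3 g hg => h3 (Nat.mod_eq_zero_of_dvd (dvd_k_of_common hne' h1 h2 hg.1 hg.2))
      have h1 := triple_count (hd' hab.symm hxd (hprime _ xm).2 hxy.1)
        (hd' hac.symm hxd (hprime _ xm).2 hxz.1) (hd' hbc.symm hyd (hprime _ ym).2 hyz.1)
        (hprime _ xm).1.one_lt (hprime _ ym).1.one_lt (hprime _ zm).1.one_lt
      have wx := weight_le hxd (hprime _ xm).2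
      have wy := weight_le hyd (hprime _ ym).2
      have wz := weight_le hzd (hprime _ zm).2
      rw [← hx2] at wx
      rw [← hy2] at wy
      rw [← hz2] at wz
      simp only [Prod.mk.eta] at wx wy wz
      omega
    simp only [search, Bool.or_eq_true] at h
    rcases h with h | h
    · exact key 19 7 5 (by norm_num) (by norm_num) (by norm_num) h
    · exact key 19 11 7 (by norm_num) (by norm_num) (by norm_num) h
  | cons q qs ih =>
    intro cur hqs hcur hnd h
    have hqmem := hqs q (List.mem_cons_self)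
    obtain ⟨hqp, hq2⟩ := hprime q hqmem
    haveI := Fact.mk hqp
    rw [List.nodup_cons] at hnd
    simp only [search] at h
    by_cases hq : q ∣ Nat.card G
    · rw [if_pos (by simpa using Nat.mod_eq_zero_of_dvd hq)] at h
      set n := Nat.card (Sylow q G) with hn
      obtain ⟨Q⟩ : Nonempty (Sylow q G) := inferInstance
      have hmem : n ∈ divs := mem_divs ((Sylow.card_dvd_index Q).trans
        ((Subgroup.index_dvd_card _).trans hd))
      have h' := List.all_eq_true.mp h n hmem
      have hmod := card_sylow_modEq_one q G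
      rw [Nat.ModEq, Nat.one_mod_eq_one.mpr hqp.one_lt.ne'] at hmod
      have hneq : Nat.card G ≠ q := fun hh => hne q hh hqp
      have hok : okN (Nat.card G) q n = true := by
        simp only [okN, Bool.and_eq_true, decide_eq_true_eq, beq_iff_eq, Bool.not_eq_true',
          Bool.and_eq_false_iff, beq_eq_false_iff_ne]
        refine ⟨⟨⟨⟨?_, hmod⟩, (sylow_arith hq hq2 Q).2⟩, burnside_gcd hq hq2 hneq⟩, ?_⟩
        · rcases Nat.lt_or_ge 1 n with h1 | h1
          · exact h1
          · exfalso
            have hn1 : Nat.card (Sylow q G) = 1 := by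
              have := Nat.card_pos (α := Sylow q G); omega
            haveI := (Nat.card_eq_one_iff_unique.mp hn1).1
            exact not_normal_of_simple hq hneq hq2 Q Q.normal_of_subsingleton
        · by_cases h19 : q = 19
          · subst h19
            by_cases h20 : n = 20
            · exact Or.inr (parity hq hq2 h20 hneq)
            · exact Or.inl (Or.inr h20)
          · exact Or.inl (Or.inl h19)
      have hpairs : (cur.all fun p => pairOK (Nat.card G) (q, n) p &&
          pairOK (Nat.card G) p (q, n)) = true := by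
        rw [List.all_eq_true]
        intro p hp
        obtain ⟨pm, hpd, hp2, hpn⟩ := hcur p hp
        obtain ⟨hpp, hpp2⟩ := hprime _ pm
        haveI := Fact.mk hpp
        have hne' : p.1 ≠ q := fun hh => hpn (hh ▸ List.mem_cons_self)
        have gen : ∀ {a b : ℕ} [Fact a.Prime] [Fact b.Prime], b ≠ a → a ∣ Nat.card G →
            ¬ a ^ 2 ∣ Nat.card G → b ∣ Nat.card G → ¬ b ^ 2 ∣ Nat.card G →
            pairOK (Nat.card G) (a, Nat.card (Sylow a G)) (b, Nat.card (Sylow b G)) = true := by
          intro a b _ _ hba ha ha2 hb hb2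
          simp only [pairOK]
          split
          · rfl
          · next hcond =>
            simp only [Bool.or_eq_true, bne_iff_ne, ne_eq, beq_iff_eq, not_or, not_not] at hcond
            obtain ⟨h1, u, v, hu, hu1, hv, hv1, huv⟩ := pair_cond hba ha ha2 hb hb2
              (Nat.dvd_of_mod_eq_zero hcond.1) (fun hh => hcond.2 (Nat.mod_eq_zero_of_dvd hh))
            simp only [Bool.and_eq_true, beq_iff_eq, List.any_eq_true]
            have hbig : ∀ {w s t i : ℕ}, w ∣ Nat.card G / s / t / i → s ∣ Nat.card G →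
                t ∣ Nat.card G / s → i ∣ Nat.card G / s / t → w ∈ divs := fun h1 h2 h3 h4 =>
              mem_divs (h1.trans ((Nat.div_dvd_of_dvd h4).trans ((Nat.div_dvd_of_dvd h3).trans
                ((Nat.div_dvd_of_dvd h2).trans hd))))
            obtain ⟨A⟩ : Nonempty (Sylow a G) := inferInstance
            obtain ⟨B⟩ : Nonempty (Sylow b G) := inferInstance
            exact ⟨Nat.mod_eq_zero_of_dvd h1, u,
              hbig hu ha (Nat.dvd_of_mod_eq_zero (sylow_arith ha ha2 A).2)
                (Nat.dvd_of_mod_eq_zero hcond.1),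
              ⟨Nat.mod_eq_zero_of_dvd hu, hu1⟩, v,
              hbig hv hb (Nat.dvd_of_mod_eq_zero (sylow_arith hb hb2 B).2) h1,
              ⟨Nat.mod_eq_zero_of_dvd hv, hv1⟩, huv⟩
        have e1 := gen hne' hq hq2 hpd hpp2
        have e2 := gen hne'.symm hpd hpp2 hq hq2
        rw [← hp2, ← hn] at e1 e2
        simp only [Bool.and_eq_true]
        exact ⟨e1, e2⟩
      simp only [hok, hpairs, Bool.not_true, Bool.false_or] at h'
      refine ih _ (fun r hr => hqs r (List.mem_cons_of_mem q hr)) ?_ hnd.2 h'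
      intro p hp
      rcases List.mem_cons.mp hp with rfl | hp'
      · exact ⟨hqmem, hq, hn, hnd.1⟩
      · obtain ⟨a, b, c, e⟩ := hcur p hp'
        exact ⟨a, b, c, fun hh => e (List.mem_cons_of_mem q hh)⟩
    · rw [if_neg (by simpa using fun hh => hq (Nat.dvd_of_mod_eq_zero hh))] at h
      refine ih cur (fun r hr => hqs r (List.mem_cons_of_mem q hr)) (fun p hp => ?_) hnd.2 h
      obtain ⟨a, b, c, e⟩ := hcur p hp
      exact ⟨a, b, c, fun hh => e (List.mem_cons_of_mem q hh)⟩

/-- No simple group has order a proper multiple of `19` properly dividing `175560`. -/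
theorem not_simple [IsSimpleGroup G] (hd : Nat.card G ∣ 175560) (hlt : Nat.card G < 175560)
    (h19 : 19 ∣ Nat.card G) (hne : Nat.card G ≠ 19) : False := by
  have hnp : ∀ q, Nat.card G = q → ¬ q.Prime := fun q hq hp => by
    subst hq
    exact hne ((Nat.prime_dvd_prime_iff_eq (by norm_num) hp).mp h19).symm
  have h4 : 4 ∣ Nat.card G := by
    by_contra h4
    haveI : Fact (Nat.Prime 2) := ⟨Nat.prime_two⟩
    by_cases h2 : 2 ∣ Nat.card G
    · have h := burnside_gcd (q := 2) h2 h4 (fun h => hnp 2 h Nat.prime_two)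
      norm_num at h
    · -- odd order: the least prime divisor gives a complement
      have hpos : Nat.card G ≠ 1 := fun h => by rw [h] at h19; norm_num at h19
      haveI := Fact.mk (Nat.minFac_prime hpos)
      set q := (Nat.card G).minFac with hq
      have hqd : q ∣ Nat.card G := Nat.minFac_dvd _
      have hq2 : ¬ q ^ 2 ∣ Nat.card G := by
        intro hh
        have h3 : q ≠ 2 := fun h' => h2 (h' ▸ hqd)
        have := hh.trans hd
        have hmem := mem_divs this
        have hall : divs.all (fun d => (List.range 420).all fun i => i * i != d || i < 3) = true := by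
          decide +kernel
        have h4' := List.all_eq_true.mp (List.all_eq_true.mp hall _ hmem) q (by
          rw [List.mem_range]
          by_contra hlt'
          have hle := Nat.le_of_dvd (by norm_num) this
          nlinarith)
        simp only [Bool.or_eq_true, bne_iff_ne, decide_eq_true_eq, pow_two, ne_eq, not_true,
          false_or] at h4'
        have := (Fact.out : q.Prime).two_le
        omega
      have h := burnside_gcd (q := q) hqd hq2 (fun h => hnp q h Fact.out)
      set g := Nat.gcd (q - 1) (Nat.card G / q / Nat.card (Sylow q G)) with hg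
      obtain ⟨p, hp, hpg⟩ := Nat.exists_prime_and_dvd (show g ≠ 1 by omega)
      obtain ⟨Q⟩ : Nonempty (Sylow q G) := inferInstance
      have hpG : p ∣ Nat.card G := by
        refine ((hpg.trans (Nat.gcd_dvd_right _ _)).trans (Dvd.intro_left q ?_)).trans
          (Subgroup.card_subgroup_dvd_card (Subgroup.normalizer ((Q : Subgroup G) : Set G)))
        exact (sylow_arith hqd hq2 Q).1.symm
      have h5 := Nat.minFac_le_of_dvd hp.two_le hpG
      have hqq := (Fact.out : q.Prime).two_le
      have h6 := Nat.le_of_dvd (by omega) (hpg.trans (Nat.gcd_dvd_left _ _))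
      rw [← hq] at h5
      omega
  have hmem : Nat.card G ∈ divs.filter fun X => X % 19 == 0 && X % 4 == 0 && X < 175560 := by
    rw [List.mem_filter]
    refine ⟨mem_divs hd, ?_⟩
    simp [Nat.mod_eq_zero_of_dvd h19, Nat.mod_eq_zero_of_dvd h4, hlt]
  exact search_sound hd hnp [19, 11, 7, 5, 3] [] (fun q hq => hq) (fun p hp => by simp at hp)
    (by decide) (List.all_eq_true.mp search_table _ hmem)

end Cfsg.Agent.FGS4.JankoOrder
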