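import Cfsg.Agent.S0029
import Cfsg.Agent.Transfer.Complement
import Cfsg.Agent.OddLocal.RankTwo.Metacyclic
import Cfsg.Agent.FGS2.PiClosed
import Cfsg.Agent.Core.Cores
import Cfsg.Agent.Core.Frattini
import Mathlib.GroupTheory.PGroup

/-! # `p`-nilpotency of groups with metacyclic Sylow `p`-subgroups -/

set_option linter.style.haveILetI false

namespace Cfsg.Agent.FGS4.MetacyclicComplement

open Subgroup

variable {p : ℕ} [hp : Fact p.Prime]

theorem pow_mem_frattini {U : Type*} [Group U] [Finite U] (hU : IsPGroup p U) (x : U) :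
    x ^ p ∈ frattini U := by
  haveI : Group.IsNilpotent U := hU.isNilpotent
  rw [frattini, Order.radical]
  simp only [Subgroup.mem_iInf]
  intro M hM
  haveI := Subgroup.NormalizerCondition.normal_of_coatom M Group.normalizerCondition_of_isNilpotent hM
  haveI : IsSimpleGroup (U ⧸ M) := by
    haveI : Nontrivial (U ⧸ M) := QuotientGroup.nontrivial_iff.mpr hM.1
    refine ⟨fun H _ => ?_⟩
    rcases hM.le_iff.mp (QuotientGroup.le_comap_mk' M H) with h | h
    · exact Or.inr (Subgroup.comap_injective (QuotientGroup.mk'_surjective M) (by rw [h, Subgroup.comap_top]))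
    · exact Or.inl (Subgroup.comap_injective (QuotientGroup.mk'_surjective M)
        (by rw [h, MonoidHom.comap_bot, QuotientGroup.ker_mk']))
  haveI : Group.IsSolvable (U ⧸ M) := inferInstance
  haveI : IsMulCommutative (U ⧸ M) :=
    ⟨⟨IsSimpleGroup.comm_iff_isSolvable.mpr inferInstance⟩⟩
  have hprime : (Nat.card (U ⧸ M)).Prime := IsSimpleGroup.prime_card
  obtain ⟨n, hn⟩ := IsPGroup.iff_card.mp (hU.to_quotient M)
  have hcard : Nat.card (U ⧸ M) = p := by
    have := (Nat.prime_dvd_prime_iff_eq hprime hp.out).1 (hprime.dvd_of_dvd_pow (dvd_of_eq hn))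
    exact this
  rw [← QuotientGroup.eq_one_iff, QuotientGroup.mk_pow, ← hcard]
  exact pow_card_eq_one'

theorem card_frattini_quotient_le {U : Type*} [Group U] [Finite U] (hU : IsPGroup p U)
    (hm : IsMetacyclic U) : Nat.card (U ⧸ frattini U) ≤ p ^ 2 := by
  have h := OddLocal.RankTwo.card_le_of_metacyclic (p := p)
    (OddLocal.RankTwo.metacyclic_quotient hm (frattini U)) ⊤ (fun y _ => by
      obtain ⟨x, rfl⟩ := QuotientGroup.mk'_surjective _ y
      rw [← map_pow]
      exact (QuotientGroup.eq_one_iff _).2 (pow_mem_frattini hU x))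
  rwa [Subgroup.card_top] at h

/-- An automorphism of `q`-power order moving something in a group of order at most `p ^ 2`. -/
theorem dvd_sq_sub_one {Q : Type*} [Group Q] [Finite Q] (hQ : IsPGroup p Q)
    (hcard : Nat.card Q ≤ p ^ 2) {q : ℕ} [hq : Fact q.Prime] (hpq : p ≠ q) (φ : MulAut Q)
    (hφ : ∃ e, φ ^ q ^ e = 1) (hne : φ ≠ 1) : q ∣ p ^ 2 - 1 := by
  obtain ⟨e, he⟩ := hφ
  set A := Subgroup.zpowers φ
  have hA : IsPGroup q A := by
    have h0 : orderOf φ ∣ q ^ e := orderOf_dvd_of_pow_eq_one he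
    obtain ⟨j, -, hj⟩ := (Nat.dvd_prime_pow hq.out).1 h0
    exact IsPGroup.of_card (n := j) (by rw [Nat.card_zpowers, hj])
  have hmod := hA.card_modEq_card_fixedPoints Q
  have hfix : MulAction.fixedPoints A Q = (φ.toMonoidHom.eqLocus (MonoidHom.id Q) : Set Q) := by
    ext x
    constructor
    · intro hx
      exact hx ⟨φ, Subgroup.mem_zpowers φ⟩
    · intro hx
      rintro ⟨a, ha⟩
      have : a ∈ MulAction.stabilizer (MulAut Q) x :=
        (Subgroup.zpowers_le (H := MulAction.stabilizer (MulAut Q) x)).2 hx ha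
      exact this
  rw [hfix] at hmod
  obtain ⟨i, hi⟩ := IsPGroup.iff_card.mp hQ
  obtain ⟨j, hj, hjc⟩ := (Nat.dvd_prime_pow hp.out).1
    (hi ▸ Subgroup.card_subgroup_dvd_card (φ.toMonoidHom.eqLocus (MonoidHom.id Q)))
  have hjlt : j < i := by
    rcases lt_or_eq_of_le hj with h | h
    · exact h
    exfalso
    apply hne
    have htop := Subgroup.eq_top_of_card_eq _ (hjc.trans (h ▸ hi.symm))
    exact MulEquiv.ext fun x => (htop.symm ▸ Subgroup.mem_top x : x ∈ φ.toMonoidHom.eqLocus (MonoidHom.id Q))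
  have hi2 : i ≤ 2 := (Nat.pow_le_pow_iff_right hp.out.one_lt).1 (hi ▸ hcard)
  have hmod' : p ^ i ≡ p ^ j [MOD q] := by rw [← hi, ← hjc]; exact hmod
  have hd := (Nat.modEq_iff_dvd' (Nat.pow_le_pow_right hp.out.pos hj)).1 hmod'.symm
  rw [show p ^ i - p ^ j = p ^ j * (p ^ (i - j) - 1) by
    rw [Nat.mul_sub, mul_one, ← pow_add, Nat.add_sub_cancel' hj]] at hd
  have hcop : q.Coprime (p ^ j) :=
    ((Nat.coprime_primes hq.out hp.out).2 hpq.symm).pow_right j
  have hd2 := hcop.dvd_of_dvd_mul_left hd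
  refine hd2.trans (Nat.pow_sub_one_dvd_pow_sub_one p ?_)
  have : i - j = 1 ∨ i - j = 2 := by omega
  rcases this with e | e <;> simp [e]

theorem coprime_of_hasNPC {G : Type*} [Group G] [Finite G] (h : HasNormalPComplement p G) :
    (Nat.card (G ⧸ pPrimePCore p G)).Coprime (p ^ 2 - 1) := by
  obtain ⟨N, hN, hNc, k, hk⟩ := Transfer.hasNormalPComplement_iff_exists.mp h
  have hle : N ≤ pPrimeCore p G := Core.le_pPrimeCore hN hNc
  have hq : IsPGroup p (G ⧸ pPrimeCore p G) := by
    obtain ⟨j, -, hj⟩ := (Nat.dvd_prime_pow hp.out).1 (hk ▸ Subgroup.index_dvd_of_le hle)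
    exact IsPGroup.of_card (n := j) ((Subgroup.index_eq_card _).symm.trans hj)
  have htop : pPrimePCore p G = ⊤ := by
    rw [pPrimePCore, Core.pCore_eq_top hq, Subgroup.comap_top]
  rw [← Subgroup.index_eq_card, htop, Subgroup.index_top]
  exact Nat.coprime_one_left _

theorem hasNPC_of_coprime {G : Type*} [Group G] [Finite G] (S : Sylow p G)
    (hS : IsMetacyclic (S : Subgroup G))
    (hco : (Nat.card (G ⧸ pPrimePCore p G)).Coprime (p ^ 2 - 1)) : HasNormalPComplement p G := by
  refine Transfer.hasNormalPComplement_of_frobenius S fun U hUS _ g hg hgp => ?_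
  refine FGS2.PiClosed.mem_of_parts fun r hr hrd k y hy hyo => ?_
  haveI := Fact.mk hr
  have hrp : r ≠ p := by
    rintro rfl
    exact hp.out.ne_one (Nat.eq_one_of_dvd_coprimes hgp hrd dvd_rfl)
  have hyU : y ∈ Subgroup.normalizer (U : Set G) := (Subgroup.zpowers_le.2 hg) hy
  have hUp : IsPGroup p U := S.isPGroup'.to_le hUS
  by_contra hyC
  -- `y` lies outside `O_{p',p}`
  have hyM : y ∉ pPrimePCore p G := by
    intro hyM
    apply hyC
    have hyK : y ∈ pPrimeCore p G := by
      rw [pPrimePCore, Subgroup.mem_comap] at hyM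
      obtain ⟨n, hn⟩ := Core.isPGroup_pCore p (G ⧸ pPrimeCore p G) ⟨_, hyM⟩
      rw [← QuotientGroup.eq_one_iff]
      have h1 : orderOf (QuotientGroup.mk' (pPrimeCore p G) y) ∣ p ^ n :=
        orderOf_dvd_of_pow_eq_one (congrArg Subtype.val hn)
      have h2 : orderOf (QuotientGroup.mk' (pPrimeCore p G) y) ∣ r ^ k := hyo ▸ orderOf_map_dvd _ y
      exact orderOf_eq_one_iff.1 (Nat.eq_one_of_dvd_coprimes
        (Nat.Coprime.pow n k ((Nat.coprime_primes hp.out hr).2 hrp.symm)) h1 h2)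
    rw [Subgroup.mem_centralizer_iff]
    intro u hu
    haveI : (pPrimeCore p G).Normal := inferInstance
    have h1 : u * y * u⁻¹ * y⁻¹ ∈ U ⊓ pPrimeCore p G := by
      refine ⟨?_, Subgroup.mul_mem _ (this.conj_mem y hyK u) (Subgroup.inv_mem _ hyK)⟩
      have h3 := U.mul_mem hu ((Subgroup.mem_normalizer_iff.1 hyU u⁻¹).1 (U.inv_mem hu))
      simpa [mul_assoc] using h3
    rw [Cfsg.Agent.Coprime.inf_eq_bot_of_coprime ?_, Subgroup.mem_bot] at h1
    · calc u * y = (u * y * u⁻¹ * y⁻¹) * (y * u) := by group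
        _ = y * u := by rw [h1, one_mul]
    · obtain ⟨n, hn⟩ := IsPGroup.iff_card.mp hUp
      rw [hn]
      exact (Core.card_pPrimeCore_coprime p G).pow_right n
  -- so `r` divides the index, but not `p ^ 2 - 1`
  have hrdiv : r ∣ Nat.card (G ⧸ pPrimePCore p G) := by
    have h1 : orderOf (QuotientGroup.mk' (pPrimePCore p G) y) ∣ r ^ k := hyo ▸ orderOf_map_dvd _ y
    obtain ⟨j, -, hj⟩ := (Nat.dvd_prime_pow hr).1 h1
    rcases Nat.eq_zero_or_pos j with hj0 | hj0
    · rw [hj0, pow_zero, orderOf_eq_one_iff] at hj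
      exact absurd ((QuotientGroup.eq_one_iff _).1 hj) hyM
    exact ((dvd_pow_self r hj0.ne').trans (dvd_of_eq hj.symm)).trans (orderOf_dvd_natCard _)
  have hndvd : ¬ r ∣ p ^ 2 - 1 := fun h => hr.ne_one (Nat.eq_one_of_dvd_coprimes hco hrdiv h)
  apply hndvd
  set F := frattini U
  have hmet : IsMetacyclic U := by
    obtain ⟨N, hN, hNc, hQc⟩ := OddLocal.RankTwo.metacyclic_subgroup hS (U.subgroupOf (S : Subgroup G))
    have e := Subgroup.subgroupOfEquivOfLe hUS
    haveI : (N.map e.toMonoidHom).Normal := hN.map _ e.surjective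
    haveI := hN; haveI := hNc; haveI := hQc
    exact ⟨N.map e.toMonoidHom, inferInstance,
      isCyclic_of_surjective (e.toMonoidHom.subgroupMap N) (e.toMonoidHom.subgroupMap_surjective N),
      isCyclic_of_surjective (QuotientGroup.congr N (N.map e.toMonoidHom) e rfl).toMonoidHom
        (QuotientGroup.congr N (N.map e.toMonoidHom) e rfl).surjective⟩
  let c : Subgroup.normalizer (U : Set G) →* MulAut U := U.normalizerMonoidHom
  have hFmap : ∀ a : MulAut U, F.map (a : U →* U) = F := fun a =>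
    Subgroup.characteristic_iff_map_eq.mp frattini_characteristic a
  set φ : MulAut (U ⧸ F) := QuotientGroup.congr F F (c ⟨y, hyU⟩) (hFmap _) with hφ
  have hcong : ∀ (m : ℕ) (u : U), (φ ^ m) (u : U ⧸ F) = (((c ⟨y, hyU⟩) ^ m) u : U ⧸ F) := by
    intro m
    induction m with
    | zero => intro u; simp
    | succ m ih =>
      intro u
      rw [pow_succ, pow_succ, MulAut.mul_apply, MulAut.mul_apply, hφ, QuotientGroup.congr_mk, ← hφ, ih]
  refine dvd_sq_sub_one (hUp.to_quotient F) (card_frattini_quotient_le hUp hmet) hrp.symm φ ⟨k, ?_⟩ ?_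
  · refine MulEquiv.ext fun x => ?_
    obtain ⟨u, rfl⟩ := QuotientGroup.mk'_surjective F x
    show (φ ^ r ^ k) (u : U ⧸ F) = (u : U ⧸ F)
    rw [hcong, ← map_pow]
    have : (⟨y, hyU⟩ : Subgroup.normalizer (U : Set G)) ^ r ^ k = 1 := Subtype.ext (by
      rw [SubmonoidClass.coe_pow, ← hyo, pow_orderOf_eq_one]; rfl)
    rw [this, map_one]; rfl
  · intro hφ1
    apply hyC
    refine S0029.result (Subgroup.zpowers y) U (Subgroup.zpowers_le.2 hyU) ?_ ?_ (Subgroup.mem_zpowers y)
    · obtain ⟨n, hn⟩ := IsPGroup.iff_card.mp (hUp.to_subgroup (frattini U))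
      rw [Nat.card_zpowers, hyo, hn]
      exact Nat.Coprime.pow k n ((Nat.coprime_primes hr hp.out).2 hrp)
    · intro a ha u hu
      obtain ⟨m, rfl⟩ := (mem_powers_iff_mem_zpowers.2 ha)
      have h1 := hcong m ⟨u, hu⟩
      rw [hφ1, one_pow, ← map_pow, MulAut.one_apply] at h1
      have h2 : (c (⟨y, hyU⟩ ^ m) ⟨u, hu⟩) * (⟨u, hu⟩ : U)⁻¹ ∈ F := by
        rw [← QuotientGroup.eq_one_iff, QuotientGroup.mk_mul, ← h1, QuotientGroup.mk_inv, mul_inv_cancel]
      exact ⟨_, h2, rfl⟩

end Cfsg.Agent.FGS4.MetacyclicComplement
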