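import Cfsg.Prelude.Def_HallClasses
import Mathlib.GroupTheory.Sylow
import Mathlib.GroupTheory.QuotientGroup.Basic

/-! # Pronormality of overgroups of Sylow subgroups in group extensions -/

namespace Cfsg.Agent.FGS4.Pronormal

open Subgroup
open scoped Pointwise

variable {G G' : Type*} [Group G] [Group G']

/-- Conjugate subgroup. -/
abbrev cmap (g : G) (H : Subgroup G) : Subgroup G := H.map (MulAut.conj g).toMonoidHom

theorem cmap_cmap (g h : G) (H : Subgroup G) : cmap g (cmap h H) = cmap (g * h) H := by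
  rw [cmap, cmap, Subgroup.map_map]
  congr 1
  ext x
  simp

theorem cmap_one (H : Subgroup G) : cmap 1 H = H := by
  ext x
  simp [Subgroup.mem_map]

theorem cmap_inv_cmap (g : G) (H : Subgroup G) : cmap g⁻¹ (cmap g H) = H := by
  rw [cmap_cmap, inv_mul_cancel, cmap_one]

theorem mem_cmap {g x : G} {H : Subgroup G} : x ∈ cmap g H ↔ g⁻¹ * x * g ∈ H := by
  constructor
  · rintro ⟨y, hy, rfl⟩
    simpa [mul_assoc] using hy
  · intro h
    exact ⟨_, h, by simp [mul_assoc]⟩

theorem map_cmap (f : G →* G') (g : G) (H : Subgroup G) :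
    (cmap g H).map f = cmap (f g) (H.map f) := by
  rw [cmap, cmap, Subgroup.map_map, Subgroup.map_map]
  congr 1
  ext x
  simp

theorem cmap_eq_self_iff {g : G} {H : Subgroup G} :
    cmap g H = H ↔ g ∈ normalizer (H : Set G) := by
  rw [mem_normalizer_iff]
  constructor
  · intro h y
    constructor
    · intro hy
      rw [← h]
      exact mem_cmap.2 (by simpa [mul_assoc] using hy)
    · intro hy
      rw [← h] at hy
      simpa [mul_assoc] using mem_cmap.1 hy
  · intro h
    ext y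
    rw [mem_cmap, h, show g * (g⁻¹ * y * g) * g⁻¹ = y by group]

theorem cmap_le_of_mem {L H : Subgroup G} (hH : H ≤ L) {g : G} (hg : g ∈ L) : cmap g H ≤ L := by
  rintro x ⟨y, hy, rfl⟩
  exact mul_mem (mul_mem hg (hH hy)) (inv_mem hg)

theorem isPronormal_cmap (a : G) {H : Subgroup G} (h : Cfsg.IsPronormal H) :
    Cfsg.IsPronormal (cmap a H) := by
  intro g
  obtain ⟨x, hx, he⟩ := h (a⁻¹ * g * a)
  refine ⟨a * x * a⁻¹, ?_, ?_⟩
  · have h2 : cmap a (H ⊔ cmap (a⁻¹ * g * a) H) = cmap a H ⊔ cmap g (cmap a H) := by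
      rw [cmap, Subgroup.map_sup]
      congr 1
      show cmap a (cmap (a⁻¹ * g * a) H) = cmap g (cmap a H)
      rw [cmap_cmap, cmap_cmap]
      congr 1
      group
    exact h2.le ⟨x, hx, rfl⟩
  · show cmap g (cmap a H) = cmap (a * x * a⁻¹) (cmap a H)
    have he' : cmap a (cmap (a⁻¹ * g * a) H) = cmap a (cmap x H) := congrArg (cmap a) he
    rw [cmap_cmap, cmap_cmap] at he' ⊢
    rw [show a * (a⁻¹ * g * a) = g * a by group] at he'
    rw [he', show a * x * a⁻¹ * a = a * x by group]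

theorem isPronormal_map (f : G →* G') (hf : Function.Surjective f) {H : Subgroup G}
    (h : Cfsg.IsPronormal H) : Cfsg.IsPronormal (H.map f) := by
  intro g'
  obtain ⟨g, rfl⟩ := hf g'
  obtain ⟨x, hx, he⟩ := h g
  refine ⟨f x, ?_, ?_⟩
  · show f x ∈ H.map f ⊔ cmap (f g) (H.map f)
    rw [← map_cmap, ← Subgroup.map_sup]
    exact ⟨x, hx, rfl⟩
  · show cmap (f g) (H.map f) = cmap (f x) (H.map f)
    rw [← map_cmap, ← map_cmap]
    exact congrArg (Subgroup.map f) he

theorem isPronormal_subgroupOf {H N : Subgroup G} (hle : H ≤ N) (h : Cfsg.IsPronormal H) :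
    Cfsg.IsPronormal (H.subgroupOf N) := by
  intro g
  obtain ⟨x, hx, he⟩ := h (g : G)
  have hxN : x ∈ N := sup_le hle (cmap_le_of_mem hle g.2) hx
  refine ⟨⟨x, hxN⟩, ?_, ?_⟩
  · show (⟨x, hxN⟩ : N) ∈ H.subgroupOf N ⊔ cmap g (H.subgroupOf N)
    rw [← Subgroup.mem_map_iff_mem N.subtype_injective, Subgroup.map_sup, map_cmap,
      map_subgroupOf_eq_of_le hle]
    exact hx
  · apply Subgroup.map_injective N.subtype_injective
    show (cmap g (H.subgroupOf N)).map N.subtype = (cmap ⟨x, hxN⟩ (H.subgroupOf N)).map N.subtype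
    rw [map_cmap, map_cmap, map_subgroupOf_eq_of_le hle]
    exact he

/-- The transported form of a pronormality witness inside a subgroup. -/
theorem witness_of_subgroup {N K : Subgroup G} (hle : K ≤ N) (h : Cfsg.IsPronormal (K.subgroupOf N))
    {g : G} (hg : g ∈ N) : ∃ x ∈ K ⊔ cmap g K, cmap g K = cmap x K := by
  obtain ⟨x, hx, he⟩ := h ⟨g, hg⟩
  refine ⟨x, ?_, ?_⟩
  · have := Subgroup.mem_map_of_mem N.subtype hx
    rwa [Subgroup.map_sup, map_cmap, map_subgroupOf_eq_of_le hle] at this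
  · have := congrArg (Subgroup.map N.subtype) he
    rw [map_cmap, map_cmap, map_subgroupOf_eq_of_le hle] at this
    exact this

section

variable [Finite G] {p : ℕ} [Fact p.Prime] {A : Subgroup G} [hAn : A.Normal]

omit [Fact p.Prime] in
/-- Frattini argument inside `A`. -/
theorem exists_conj_of_normalizes [Fact p.Prime] (P₀ : Sylow p A) {D : Subgroup G}
    (_hDA : D ≤ A) (hTD : (P₀ : Subgroup A).map A.subtype ≤ D) {h : G} (hh : cmap h D = D) :
    ∃ d ∈ D, d⁻¹ * h ∈ normalizer (((P₀ : Subgroup A).map A.subtype : Subgroup G) : Set G) := by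
  set T := (P₀ : Subgroup A).map A.subtype with hT
  let f : A →* A := (MulAut.conjNormal h : MulAut A).toMonoidHom
  have hf : Function.Surjective f := (MulAut.conjNormal h : MulAut A).surjective
  let Q := P₀.mapSurjective hf
  have hQmap : (Q : Subgroup A).map A.subtype = cmap h T := by
    rw [Sylow.coe_mapSurjective, hT, cmap, Subgroup.map_map, Subgroup.map_map]
    congr 1
  have hP : (P₀ : Subgroup A) ≤ D.subgroupOf A := fun x hx => hTD ⟨x, hx, rfl⟩
  have hQ : (Q : Subgroup A) ≤ D.subgroupOf A := fun x hx =>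
    hh.le ((Subgroup.map_mono hTD) (hQmap.le ⟨x, hx, rfl⟩))
  obtain ⟨d, hd⟩ := MulAction.exists_smul_eq (D.subgroupOf A) (P₀.subtype hP) (Q.subtype hQ)
  rw [Sylow.smul_subtype] at hd
  have hd' := congrArg (fun R : Sylow p A => (R : Subgroup A).map A.subtype)
    (Sylow.subtype_injective hd)
  simp only [hQmap] at hd'
  refine ⟨((d : A) : G), d.2, ?_⟩
  rw [← cmap_eq_self_iff, ← cmap_cmap, ← hd']
  have e : ((d • P₀ : Sylow p A) : Subgroup A).map A.subtype = cmap ((d : A) : G) T :=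
    map_cmap A.subtype (d : A) (P₀ : Subgroup A)
  rw [e, cmap_inv_cmap]

/-- Sufficiency. -/
theorem pronormal_of_conditions
    (hA : ∀ K : Subgroup A, (∃ P : Sylow p A, (P : Subgroup A) ≤ K) → Cfsg.IsPronormal K)
    (hQ : ∀ K : Subgroup (G ⧸ A), (∃ P : Sylow p (G ⧸ A), (P : Subgroup (G ⧸ A)) ≤ K) →
      Cfsg.IsPronormal K)
    (P₀ : Sylow p A) (T : Subgroup G) (hT : (P₀ : Subgroup A).map A.subtype = T)
    [hTn : (T.subgroupOf (normalizer (T : Set G))).Normal]
    (hi : ∀ K : Subgroup (↥(normalizer (T : Set G)) ⧸ T.subgroupOf (normalizer (T : Set G))),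
      (∃ P : Sylow p (↥(normalizer (T : Set G)) ⧸ T.subgroupOf (normalizer (T : Set G))),
        (P : Subgroup (↥(normalizer (T : Set G)) ⧸ T.subgroupOf (normalizer (T : Set G)))) ≤ K) →
      Cfsg.IsPronormal K)
    (hii : ∀ K : Subgroup G, (∃ P : Sylow p G, (P : Subgroup G) ≤ K) →
      (normalizer (K : Set G)).map (QuotientGroup.mk' A) =
        normalizer ((K.map (QuotientGroup.mk' A) : Subgroup (G ⧸ A)) : Set (G ⧸ A)))
    (H₀ : Subgroup G) (P : Sylow p G) (hP : (P : Subgroup G) ≤ H₀) : Cfsg.IsPronormal H₀ := by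
  have hTA : T ≤ A := hT ▸ Subgroup.map_subtype_le _
  have hTp : IsPGroup p T := hT ▸ P₀.isPGroup'.map A.subtype
  obtain ⟨P₁, hTP₁⟩ := hTp.exists_le_sylow
  obtain ⟨c₀, hc₀⟩ := MulAction.exists_smul_eq G P P₁
  have hP₁coe : (P₁ : Subgroup G) = cmap c₀ P := by
    rw [← hc₀, Sylow.coe_subgroup_smul]
    rfl
  suffices key : ∀ H : Subgroup G, (P₁ : Subgroup G) ≤ H → Cfsg.IsPronormal H by
    have := isPronormal_cmap c₀⁻¹ (key (cmap c₀ H₀) (hP₁coe ▸ Subgroup.map_mono hP))
    rwa [cmap_inv_cmap] at this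
  intro H hH
  set N := normalizer (T : Set G) with hN
  have hTeq : T = (P₁ : Subgroup G) ⊓ A := by
    refine le_antisymm (le_inf hTP₁ hTA) fun x hx => ?_
    have hp' : IsPGroup p (((P₁ : Subgroup G) ⊓ A).subgroupOf A) :=
      (P₁.isPGroup'.to_le inf_le_left).of_equiv (subgroupOfEquivOfLe inf_le_right).symm
    have hle : (P₀ : Subgroup A) ≤ ((P₁ : Subgroup G) ⊓ A).subgroupOf A := fun y hy =>
      ⟨hTP₁ (hT ▸ ⟨y, hy, rfl⟩), y.2⟩
    have hmem : (⟨x, hx.2⟩ : A) ∈ ((P₁ : Subgroup G) ⊓ A).subgroupOf A := hx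
    rw [P₀.is_maximal' hp' hle] at hmem
    exact hT ▸ ⟨_, hmem, rfl⟩
  have hP₁N : (P₁ : Subgroup G) ≤ N := by
    intro x hx
    rw [hN, ← cmap_eq_self_iff, hTeq, cmap, Subgroup.map_inf _ _ _ (MulAut.conj x).injective]
    congr 1
    · exact cmap_eq_self_iff.2 (le_normalizer hx)
    · exact cmap_eq_self_iff.2 (by rw [normalizer_eq_top]; exact mem_top x)
  have hTH : T ≤ H := hTP₁.trans hH
  set D := H ⊓ A with hD
  have hDnorm : ∀ h ∈ H, cmap h D = D := fun h hh => by
    rw [hD, cmap, Subgroup.map_inf _ _ _ (MulAut.conj h).injective]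
    congr 1
    · exact cmap_eq_self_iff.2 (le_normalizer hh)
    · exact cmap_eq_self_iff.2 (by rw [normalizer_eq_top]; exact mem_top h)
  have hTD : (P₀ : Subgroup A).map A.subtype ≤ D := hT ▸ le_inf hTH hTA
  set K := H ⊓ N with hK
  have hHDK : H = D ⊔ K := by
    refine le_antisymm (fun h hh => ?_) (sup_le inf_le_left inf_le_left)
    obtain ⟨d, hd, hdn⟩ := exists_conj_of_normalizes P₀ inf_le_right hTD (hDnorm h hh)
    rw [hT] at hdn
    rw [show h = d * (d⁻¹ * h) by group]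
    exact mul_mem_sup hd (Subgroup.mem_inf.2 ⟨mul_mem (inv_mem (Subgroup.mem_inf.1 hd).1) hh, hdn⟩)
  -- the witness for normalizing elements
  have hn : ∀ n ∈ N, cmap n D = D → ∃ x ∈ H ⊔ cmap n H, cmap n H = cmap x H := by
    intro n hnN hnD
    let π := QuotientGroup.mk' (T.subgroupOf N)
    have hPK : (P₁ : Subgroup G) ≤ K := le_inf hH hP₁N
    have hKN : K ≤ N := inf_le_right
    have hpro := hi ((K.subgroupOf N).map π) ⟨(P₁.subtype hP₁N).mapSurjective
      (QuotientGroup.mk'_surjective _), by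
      rw [Sylow.coe_mapSurjective]
      exact Subgroup.map_mono fun y hy => hPK hy⟩
    obtain ⟨x', hx', he⟩ := hpro (π ⟨n, hnN⟩)
    have hx'' : x' ∈ (K.subgroupOf N ⊔ cmap ⟨n, hnN⟩ (K.subgroupOf N)).map π := by
      rw [Subgroup.map_sup, map_cmap]
      exact hx'
    obtain ⟨x, hx, rfl⟩ := hx''
    have hker : ∀ g : N, π.ker ≤ cmap g (K.subgroupOf N) := by
      intro g y hy
      rw [QuotientGroup.ker_mk'] at hy
      refine mem_cmap.2 ?_
      have : g⁻¹ * y * g ∈ T.subgroupOf N := by simpa using hTn.conj_mem y hy g⁻¹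
      exact ⟨hTH this, (g⁻¹ * y * g).2⟩
    have he' : cmap (⟨n, hnN⟩ : N) (K.subgroupOf N) = cmap x (K.subgroupOf N) := by
      have h2 : (cmap (⟨n, hnN⟩ : N) (K.subgroupOf N)).map π = (cmap x (K.subgroupOf N)).map π := by
        rw [map_cmap, map_cmap]
        exact he
      rwa [Subgroup.map_eq_map_iff, sup_eq_left.2 (hker _), sup_eq_left.2 (hker _)] at h2
    have hxK : (x : G) ∈ K ⊔ cmap n K := by
      have := Subgroup.mem_map_of_mem N.subtype hx
      rwa [Subgroup.map_sup, map_cmap, map_subgroupOf_eq_of_le hKN] at this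
    have heK : cmap n K = cmap (x : G) K := by
      have := congrArg (Subgroup.map N.subtype) he'
      rw [map_cmap, map_cmap, map_subgroupOf_eq_of_le hKN] at this
      exact this
    have hxL : (x : G) ∈ H ⊔ cmap n H :=
      sup_le_sup inf_le_left (Subgroup.map_mono inf_le_left) hxK
    have hxD : cmap (x : G) D = D := by
      have hle : H ⊔ cmap n H ≤ normalizer (D : Set G) := by
        refine sup_le ?_ ?_
        · exact fun h hh => cmap_eq_self_iff.1 (hDnorm h hh)
        · rintro _ ⟨h, hh, rfl⟩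
          refine cmap_eq_self_iff.1 ?_
          show cmap (n * h * n⁻¹) D = D
          rw [← cmap_cmap, ← cmap_cmap]
          conv_lhs => rw [show cmap n⁻¹ D = D from by conv_lhs => rw [← hnD, cmap_inv_cmap]]
          rw [hDnorm h hh, hnD]
      exact cmap_eq_self_iff.2 (hle hxL)
    refine ⟨x, hxL, ?_⟩
    conv_lhs => rw [hHDK]
    conv_rhs => rw [hHDK]
    rw [cmap, cmap, Subgroup.map_sup, Subgroup.map_sup]
    exact congrArg₂ _ (hnD.trans hxD.symm) heK
  -- elements of `A`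
  have ha : ∀ a ∈ A, ∃ x ∈ H ⊔ cmap a H, cmap a H = cmap x H := by
    intro a haA
    have hDA : D ≤ A := inf_le_right
    obtain ⟨b, hb, hbe⟩ := witness_of_subgroup hDA (hA _ ⟨P₀, fun y hy => hTD ⟨y, hy, rfl⟩⟩) haA
    have hbL : b ∈ H ⊔ cmap a H := sup_le_sup inf_le_left (Subgroup.map_mono inf_le_left) hb
    have hcD : cmap (b⁻¹ * a) D = D := by rw [← cmap_cmap, hbe, cmap_inv_cmap]
    obtain ⟨d, hd, hdn⟩ := exists_conj_of_normalizes P₀ hDA hTD hcD
    rw [hT] at hdn
    set n := d⁻¹ * (b⁻¹ * a) with hndef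
    have hnD : cmap n D = D := by
      rw [hndef, ← cmap_cmap, hcD, hDnorm _ (inv_mem hd.1)]
    obtain ⟨x, hx, hxe⟩ := hn n hdn hnD
    have hbdL : b * d ∈ H ⊔ cmap a H := mul_mem hbL (mem_sup_left hd.1)
    have hnH : cmap n H = cmap (b * d)⁻¹ (cmap a H) := by
      rw [cmap_cmap, hndef]
      congr 1
      group
    have hle : H ⊔ cmap n H ≤ H ⊔ cmap a H := by
      refine sup_le le_sup_left ?_
      rw [hnH]
      exact cmap_le_of_mem le_sup_right (inv_mem hbdL)
    refine ⟨b * d * x, mul_mem hbdL (hle hx), ?_⟩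
    rw [← cmap_cmap, ← hxe, cmap_cmap, hndef]
    congr 1
    group
  intro g
  show ∃ x ∈ H ⊔ cmap g H, cmap g H = cmap x H
  let q := QuotientGroup.mk' A
  obtain ⟨l', hl', hle⟩ := hQ (H.map q) ⟨P₁.mapSurjective (QuotientGroup.mk'_surjective _), by
    rw [Sylow.coe_mapSurjective]; exact Subgroup.map_mono hH⟩ (q g)
  have hl'' : l' ∈ (H ⊔ cmap g H).map q := by
    rw [Subgroup.map_sup, map_cmap]
    exact hl'
  obtain ⟨l, hl, rfl⟩ := hl''
  have hnorm : q (l⁻¹ * g) ∈ normalizer ((H.map q : Subgroup (G ⧸ A)) : Set (G ⧸ A)) := by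
    rw [← cmap_eq_self_iff, map_mul, map_inv, ← cmap_cmap]
    show cmap (q l)⁻¹ (cmap (q g) (H.map q)) = _
    rw [show cmap (q g) (H.map q) = cmap (q l) (H.map q) from hle, cmap_inv_cmap]
  rw [← hii H ⟨P₁, hH⟩] at hnorm
  obtain ⟨n, hnH, hne⟩ := hnorm
  set a := l⁻¹ * g * n⁻¹ with hadef
  have haA : a ∈ A := by
    rw [← QuotientGroup.eq_one_iff]
    show q a = 1
    rw [hadef, map_mul, map_inv, ← hne, mul_inv_cancel]
  obtain ⟨x, hx, hxe⟩ := ha a haA
  have hga : cmap g H = cmap l (cmap a H) := by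
    conv_rhs => rw [← cmap_eq_self_iff.2 hnH, cmap_cmap, cmap_cmap, hadef]
    congr 1
    group
  have hle' : H ⊔ cmap a H ≤ H ⊔ cmap g H := by
    refine sup_le le_sup_left ?_
    rw [← cmap_inv_cmap l (cmap a H), ← hga]
    exact cmap_le_of_mem le_sup_right (inv_mem hl)
  refine ⟨l * x, mul_mem hl (hle' hx), ?_⟩
  rw [hga, hxe, cmap_cmap]

omit [Finite G] [Fact p.Prime] in
/-- Necessity of the normalizer condition. -/
theorem map_normalizer_eq {H : Subgroup G} (h : Cfsg.IsPronormal H) :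
    (normalizer (H : Set G)).map (QuotientGroup.mk' A) =
      normalizer ((H.map (QuotientGroup.mk' A) : Subgroup (G ⧸ A)) : Set (G ⧸ A)) := by
  set q := QuotientGroup.mk' A with hq
  refine le_antisymm ?_ fun y hy => ?_
  · rintro _ ⟨n, hn, rfl⟩
    rw [← cmap_eq_self_iff, ← map_cmap, cmap_eq_self_iff.2 hn]
  obtain ⟨g, rfl⟩ := QuotientGroup.mk'_surjective A y
  obtain ⟨x, hx, he⟩ := h g
  rw [← cmap_eq_self_iff] at hy
  have hxq : q x ∈ H.map q := by
    have := Subgroup.mem_map_of_mem q hx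
    rwa [Subgroup.map_sup, map_cmap, hy, sup_idem] at this
  obtain ⟨h0, hh0, hh0e⟩ := hxq
  refine ⟨h0 * (x⁻¹ * g), mul_mem (le_normalizer hh0) (cmap_eq_self_iff.1 ?_), ?_⟩
  · rw [← cmap_cmap]
    show cmap x⁻¹ (cmap g H) = H
    rw [show cmap g H = cmap x H from he, cmap_inv_cmap]
  · rw [map_mul, map_mul, map_inv, hh0e, mul_inv_cancel_left]

omit hAn in
/-- Necessity of the condition on the local quotient. -/
theorem local_quotient_pronormal
    (h : ∀ K : Subgroup G, (∃ P : Sylow p G, (P : Subgroup G) ≤ K) → Cfsg.IsPronormal K)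
    (hAn : A.Normal) (P₀ : Sylow p A) (T : Subgroup G) (hT : (P₀ : Subgroup A).map A.subtype = T)
    [hTn : (T.subgroupOf (normalizer (T : Set G))).Normal]
    (K' : Subgroup (↥(normalizer (T : Set G)) ⧸ T.subgroupOf (normalizer (T : Set G))))
    (hK' : ∃ P : Sylow p (↥(normalizer (T : Set G)) ⧸ T.subgroupOf (normalizer (T : Set G))),
      (P : Subgroup (↥(normalizer (T : Set G)) ⧸ T.subgroupOf (normalizer (T : Set G)))) ≤ K') :
    Cfsg.IsPronormal K' := by
  set N := normalizer (T : Set G) with hN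
  obtain ⟨P', hP'⟩ := hK'
  obtain ⟨R, rfl⟩ := Sylow.mapSurjective_surjective
    (QuotientGroup.mk'_surjective (T.subgroupOf N)) p P'
  -- a Sylow subgroup of the whole group lies in the normalizer
  have hTA : T ≤ A := hT ▸ Subgroup.map_subtype_le _
  have hTp : IsPGroup p T := hT ▸ P₀.isPGroup'.map A.subtype
  obtain ⟨P₁, hTP₁⟩ := hTp.exists_le_sylow
  have hTeq : T = (P₁ : Subgroup G) ⊓ A := by
    refine le_antisymm (le_inf hTP₁ hTA) fun x hx => ?_
    have hp' : IsPGroup p (((P₁ : Subgroup G) ⊓ A).subgroupOf A) :=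
      (P₁.isPGroup'.to_le inf_le_left).of_equiv (subgroupOfEquivOfLe inf_le_right).symm
    have hle : (P₀ : Subgroup A) ≤ ((P₁ : Subgroup G) ⊓ A).subgroupOf A := fun y hy =>
      ⟨hTP₁ (hT ▸ ⟨y, hy, rfl⟩), y.2⟩
    have hmem : (⟨x, hx.2⟩ : A) ∈ ((P₁ : Subgroup G) ⊓ A).subgroupOf A := hx
    rw [P₀.is_maximal' hp' hle] at hmem
    exact hT ▸ ⟨_, hmem, rfl⟩
  have hP₁N : (P₁ : Subgroup G) ≤ N := by
    intro x hx
    rw [hN, ← cmap_eq_self_iff, hTeq, cmap, Subgroup.map_inf _ _ _ (MulAut.conj x).injective]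
    congr 1
    · exact cmap_eq_self_iff.2 (le_normalizer hx)
    · exact cmap_eq_self_iff.2 (by rw [normalizer_eq_top]; exact mem_top x)
  obtain ⟨n, hn⟩ := MulAction.exists_smul_eq N (P₁.subtype hP₁N) R
  set K := (K'.comap (QuotientGroup.mk' (T.subgroupOf N))).map N.subtype with hK
  have hKN : K ≤ N := Subgroup.map_subtype_le _
  have hKsub : K.subgroupOf N = K'.comap (QuotientGroup.mk' (T.subgroupOf N)) :=
    Subgroup.comap_map_eq_self_of_injective N.subtype_injective _
  have hmap : (K.subgroupOf N).map (QuotientGroup.mk' (T.subgroupOf N)) = K' := by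
    rw [hKsub, Subgroup.map_comap_eq_self_of_surjective (QuotientGroup.mk'_surjective _)]
  rw [← hmap]
  refine isPronormal_map _ (QuotientGroup.mk'_surjective _) (isPronormal_subgroupOf hKN ?_)
  refine h K ⟨(n : G) • P₁, ?_⟩
  rw [Sylow.coe_subgroup_smul]
  rintro _ ⟨y, hy, rfl⟩
  refine ⟨n * ⟨y, hP₁N hy⟩ * n⁻¹, hP' ?_, rfl⟩
  rw [Sylow.coe_mapSurjective]
  refine ⟨_, ?_, rfl⟩
  show n * ⟨y, hP₁N hy⟩ * n⁻¹ ∈ (R : Subgroup N)
  rw [← hn, Sylow.coe_subgroup_smul]
  exact ⟨⟨y, hP₁N hy⟩, hy, rfl⟩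

omit [Fact p.Prime] in
/-- If Sylow subgroups are self-normalizing, so are their overgroups. -/
theorem normalizer_eq_of_self_normalizing [Fact p.Prime]
    (hS : ∀ P : Sylow p G, normalizer ((P : Subgroup G) : Set G) = P) {H : Subgroup G}
    {P : Sylow p G} (hP : (P : Subgroup G) ≤ H) : normalizer (H : Set G) = H := by
  refine le_antisymm (fun g hg => ?_) le_normalizer
  have hgP : ((g • P : Sylow p G) : Subgroup G) ≤ H := by
    rw [Sylow.coe_subgroup_smul]
    exact (Subgroup.map_mono hP).trans (cmap_eq_self_iff.2 hg).le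
  obtain ⟨d, hd⟩ := MulAction.exists_smul_eq H (P.subtype hP) ((g • P).subtype hgP)
  rw [Sylow.smul_subtype] at hd
  have hd' : (d : G) • P = g • P := Sylow.subtype_injective hd
  have : (d : G)⁻¹ * g ∈ normalizer ((P : Subgroup G) : Set G) :=
    Sylow.smul_eq_iff_mem_normalizer.1 (by rw [mul_smul, ← hd', inv_smul_smul])
  rw [hS] at this
  have := mul_mem d.2 (hP this)
  rwa [mul_inv_cancel_left] at this

omit [Fact p.Prime] in
/-- If Sylow subgroups are self-normalizing, their overgroups are pronormal. -/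
theorem isPronormal_of_self_normalizing [Fact p.Prime]
    (hS : ∀ P : Sylow p G, normalizer ((P : Subgroup G) : Set G) = P) {H : Subgroup G}
    {P : Sylow p G} (hP : (P : Subgroup G) ≤ H) : Cfsg.IsPronormal H := by
  intro g
  set L := H ⊔ cmap g H with hL
  have h1 : (P : Subgroup G) ≤ L := hP.trans le_sup_left
  have h2 : ((g • P : Sylow p G) : Subgroup G) ≤ L := by
    rw [Sylow.coe_subgroup_smul]
    exact (Subgroup.map_mono hP).trans le_sup_right
  obtain ⟨l, hl⟩ := MulAction.exists_smul_eq L (P.subtype h1) ((g • P).subtype h2)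
  rw [Sylow.smul_subtype] at hl
  have hl' : (l : G) • P = g • P := Sylow.subtype_injective hl
  have hmem : (l : G)⁻¹ * g ∈ H := by
    have := Sylow.smul_eq_iff_mem_normalizer.1
      (show ((l : G)⁻¹ * g) • P = P by rw [mul_smul, ← hl', inv_smul_smul])
    exact hP ((hS P).le this)
  refine ⟨l, l.2, ?_⟩
  show cmap g H = cmap (l : G) H
  conv_rhs => rw [← cmap_eq_self_iff.2 (le_normalizer hmem), cmap_cmap, mul_inv_cancel_left]

end

end Cfsg.Agent.FGS4.Pronormal
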