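import Mathlib.GroupTheory.Sylow
import Mathlib.GroupTheory.Perm.Cycle.Type
import Mathlib.Dynamics.PeriodicPts.Lemmas
import Mathlib.Logic.Equiv.Fin.Basic

/-! # Two-elements in a unique Sylow subgroup of a symmetric group -/

set_option linter.style.haveILetI false

namespace Cfsg.Agent.FGS4.UniqueSylow

open Equiv

universe u

/-- At most two fixed points and at most one cycle of each length. -/
structure Sparse {α : Type u} (x : Perm α) : Prop where
  fixed : ∀ a b c, x a = a → x b = b → x c = c → a = b ∨ a = c ∨ b = c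
  period : ∀ a b, x a ≠ a → (∀ i : ℕ, (x ^ i) a = a ↔ (x ^ i) b = b) → ∃ i : ℕ, (x ^ i) a = b

variable {α : Type u}

theorem app_add (x : Perm α) (i j : ℕ) (a : α) : (x ^ (i + j)) a = (x ^ i) ((x ^ j) a) := by
  rw [pow_add, Perm.mul_apply]

theorem pow_comm_apply {x π : Perm α} (hc : ∀ a, π (x a) = x (π a)) (i : ℕ) (a : α) :
    π ((x ^ i) a) = (x ^ i) (π a) := by
  induction i with
  | zero => simp
  | succ i ih => rw [pow_succ', Perm.mul_apply, Perm.mul_apply, hc, ih]

/-- The half turn is unique. -/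
theorem two_sol (x : Perm α) {a : α} {i k : ℕ} (hi : (x ^ (2 * i)) a = a) (hk : (x ^ (2 * k)) a = a)
    (hk' : (x ^ k) a ≠ a) : (x ^ i) a = a ∨ (x ^ i) a = (x ^ k) a := by
  set p := Function.minimalPeriod x a
  have hd : ∀ j, (x ^ j) a = a ↔ p ∣ j := fun j => by
    rw [← Function.isPeriodicPt_iff_minimalPeriod_dvd, ← Equiv.Perm.iterate_eq_pow]; rfl
  obtain ⟨c, hc⟩ := (hd _).1 hi
  obtain ⟨d, hd'⟩ := (hd _).1 hk
  rcases Nat.even_or_odd' c with ⟨c', rfl | rfl⟩
  · exact Or.inl ((hd i).2 ⟨c', by linarith⟩)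
  rcases Nat.even_or_odd' d with ⟨d', rfl | rfl⟩
  · exact absurd ((hd k).2 ⟨d', by linarith⟩) hk'
  right
  rcases le_total c' d' with hle | hle
  · obtain ⟨e, rfl⟩ := Nat.exists_eq_add_of_le hle
    have : k = i + p * e := by linarith
    rw [this, app_add, (hd _).2 (dvd_mul_right p e)]
  · obtain ⟨e, rfl⟩ := Nat.exists_eq_add_of_le hle
    have : i = k + p * e := by linarith
    rw [this, app_add, (hd _).2 (dvd_mul_right p e)]

variable [Finite α]

theorem mem_powers_of_odd {x : Perm α} (hx : ∃ k, orderOf x = 2 ^ k) {j : ℕ} (hj : Odd j) :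
    ∃ t : ℕ, (x ^ j) ^ t = x := by
  obtain ⟨k, hk⟩ := hx
  exact exists_pow_eq_self_of_coprime (by rw [hk]; exact (Nat.coprime_two_right.2 hj).pow_right k)

theorem fixed_of_odd {x : Perm α} (hx : ∃ k, orderOf x = 2 ^ k) {j : ℕ} (hj : Odd j) {a : α}
    (h : (x ^ j) a = a) : x a = a := by
  obtain ⟨t, ht⟩ := mem_powers_of_odd hx hj
  rw [← ht, ← Equiv.Perm.iterate_eq_pow]
  exact Function.iterate_fixed h t

/-- A `2`-group on a set of even size preserves a pairing. -/
theorem exists_pairing (Q : Subgroup (Perm α)) (hQ : IsPGroup 2 Q) (heven : Even (Nat.card α)) :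
    ∃ π : Perm α, (∀ a, π (π a) = a) ∧ (∀ a, π a ≠ a) ∧ ∀ g ∈ Q, ∀ a, π (g a) = g (π a) := by
  classical
  haveI : Fact (Nat.Prime 2) := ⟨Nat.prime_two⟩
  set F := MulAction.fixedPoints Q α
  have hmove : ∀ o : Quotient (MulAction.orbitRel Q α), o.out ∉ F →
      ∃ z : Q, ∀ b : α, Quotient.mk'' b = o → z • b ≠ b ∧ z • z • b = b ∧ ∀ g : Q, g • z • b = z • g • b := by
    intro o ho
    set a := o.out
    set O := MulAction.orbit Q a
    set ρ := MulAction.toPermHom Q O
    have hR : IsPGroup 2 ρ.range := by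
      exact hQ.of_surjective ρ.rangeRestrict ρ.rangeRestrict_surjective
    haveI : Nontrivial ρ.range := by
      obtain ⟨g, hg⟩ : ∃ g : Q, g • a ≠ a := by
        by_contra hne
        push Not at hne
        exact ho fun g => hne g
      refine ⟨⟨ρ.rangeRestrict g, 1, fun e => hg ?_⟩⟩
      have := congrArg (fun w : ρ.range => ((w : Perm O) ⟨a, MulAction.mem_orbit_self a⟩ : α)) e
      exact this
    haveI := hR.center_nontrivial
    obtain ⟨c, hc⟩ : ∃ c : Subgroup.center ρ.range, orderOf c = 2 := by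
      obtain ⟨j, hj⟩ := IsPGroup.iff_card.mp (hR.to_subgroup (Subgroup.center ρ.range))
      refine exists_prime_orderOf_dvd_card' 2 ?_
      rw [hj]
      refine dvd_pow_self 2 fun h0 => ?_
      rw [h0, pow_zero] at hj
      exact (Finite.one_lt_card (α := Subgroup.center ρ.range)).ne' hj
    obtain ⟨z, hz⟩ := ρ.rangeRestrict_surjective c
    have hc2 : ρ z * ρ z = 1 := by
      have h1 := congrArg (fun w : Subgroup.center ρ.range => ((w : ρ.range) : Perm O)) (pow_orderOf_eq_one c)
      rw [hc] at h1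
      simp only [SubmonoidClass.coe_pow, OneMemClass.coe_one, pow_two, Subgroup.coe_mul, ← hz] at h1
      exact h1
    have hcomm : ∀ g : Q, ρ g * ρ z = ρ z * ρ g := fun g => by
      have h1 := congrArg (fun w : ρ.range => (w : Perm O))
        (Subgroup.mem_center_iff.1 c.2 (ρ.rangeRestrict g))
      simp only [Subgroup.coe_mul, ← hz] at h1
      exact h1
    refine ⟨z, fun b hb => ?_⟩
    have hbO : b ∈ O := by
      rw [← Quotient.out_eq' o, Quotient.eq''] at hb
      exact MulAction.orbitRel_apply.1 hb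
    have h2 : z • z • b = b :=
      congrArg (fun w : Perm O => ((w ⟨b, hbO⟩ : O) : α)) hc2
    have h3 : ∀ g : Q, g • z • b = z • g • b := fun g =>
      congrArg (fun w : Perm O => ((w ⟨b, hbO⟩ : O) : α)) (hcomm g)
    refine ⟨fun hzb => ?_, h2, h3⟩
    have : ρ z = 1 := by
      refine Equiv.ext fun w => Subtype.ext ?_
      obtain ⟨g, hg⟩ := MulAction.mem_orbit_iff.1 w.2
      obtain ⟨g', hg'⟩ := MulAction.mem_orbit_iff.1 hbO
      have e : (w : α) = (g * g'⁻¹) • b := by rw [← hg', mul_smul, inv_smul_smul, hg]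
      show z • (w : α) = w
      have h4 : (g * g'⁻¹) • z • b = z • (g * g'⁻¹) • b :=
        congrArg (fun u : Perm O => ((u ⟨b, hbO⟩ : O) : α)) (hcomm _)
      rw [e, ← h4, hzb]
    have hc1 : c = 1 := Subtype.ext (by rw [← hz]; exact Subtype.ext this)
    rw [hc1, orderOf_one] at hc
    omega
  choose z hz using hmove
  -- the fixed points
  haveI : Fintype F := Fintype.ofFinite F
  have hFeven : Even (Nat.card F) := by
    have h := hQ.card_modEq_card_fixedPoints α
    rw [Nat.even_iff] at heven ⊢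
    rw [← heven]; exact h.symm
  obtain ⟨k, hk⟩ := hFeven
  let e : F ≃ Fin k × Bool :=
    (Finite.equivFinOfCardEq (by rw [hk, ← two_mul, mul_comm] : Nat.card F = k * 2)).trans
      (finProdFinEquiv.symm.trans (Equiv.prodCongr (Equiv.refl _) finTwoEquiv))
  let f : α → α := fun a =>
    if h : a ∈ F then ((e.symm ((e ⟨a, h⟩).1, !(e ⟨a, h⟩).2) : F) : α)
    else if h' : (Quotient.mk'' a : Quotient (MulAction.orbitRel Q α)).out ∈ F then a
    else z _ h' • a
  have hout : ∀ a, a ∉ F → (Quotient.mk'' a : Quotient (MulAction.orbitRel Q α)).out ∉ F := by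
    intro a ha h
    have h1 : (Quotient.mk'' a : Quotient (MulAction.orbitRel Q α)).out ∈ MulAction.orbit Q a :=
      MulAction.orbitRel_apply.1 (Quotient.exact' (Quotient.out_eq' _))
    obtain ⟨g, hg⟩ := MulAction.mem_orbit_iff.1 h1
    have h2 := h g⁻¹
    rw [← hg, inv_smul_smul] at h2
    exact ha (h2 ▸ hg ▸ h)
  have hf2 : ∀ a ∉ F, f a ∉ F ∧ f (f a) = a ∧ f a ≠ a ∧ ∀ g : Q, f (g • a) = g • f a := by
    intro a ha
    have ho := hout a ha
    obtain ⟨h1, h2, h3⟩ := hz _ ho a rfl
    have hfa : f a = z _ ho • a := by simp only [f, dif_neg ha, dif_neg ho]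
    have hzF : z _ ho • a ∉ F := fun h => h1 (by
      have := h (z _ ho)
      rw [h2] at this
      exact this.symm)
    have hq : ∀ g : Q, (Quotient.mk'' (g • a) : Quotient (MulAction.orbitRel Q α)) = Quotient.mk'' a :=
      fun g => Quotient.sound' (MulAction.orbitRel_apply.2 (MulAction.mem_orbit a g))
    have hgen : ∀ g : Q, g • a ∉ F → f (g • a) = z _ ho • g • a := by
      intro g hg
      simp only [f, dif_neg hg, dif_neg (hout _ hg)]
      congr 2
      exact hq g
    refine ⟨hfa ▸ hzF, by rw [hfa, hgen _ hzF, h2], hfa ▸ h1, fun g => ?_⟩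
    have hg : g • a ∉ F := fun h => ha (by
      have h5 := h g⁻¹
      rw [inv_smul_smul] at h5
      exact h5 ▸ h)
    rw [hgen g hg, hfa, h3]
  have hf1 : ∀ a (h : a ∈ F), f a ∈ F ∧ f (f a) = a ∧ f a ≠ a := by
    intro a h
    have hfa : f a = ((e.symm ((e ⟨a, h⟩).1, !(e ⟨a, h⟩).2) : F) : α) := by simp only [f, dif_pos h]
    have hF' : f a ∈ F := hfa ▸ Subtype.mem _
    refine ⟨hF', ?_, fun he => ?_⟩
    · have h2 : (⟨f a, hF'⟩ : F) = e.symm ((e ⟨a, h⟩).1, !(e ⟨a, h⟩).2) := Subtype.ext hfa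
      show (if h : f a ∈ F then _ else _) = a
      rw [dif_pos hF', h2]
      simp
    · have h2 : e ⟨a, h⟩ = ((e ⟨a, h⟩).1, !(e ⟨a, h⟩).2) := by
        conv_lhs => rw [show (⟨a, h⟩ : F) = e.symm ((e ⟨a, h⟩).1, !(e ⟨a, h⟩).2) from Subtype.ext (he.symm.trans hfa)]
        simp
      simpa using congrArg Prod.snd h2
  have hinv : Function.Involutive f := fun a => by
    by_cases h : a ∈ F
    · exact (hf1 a h).2.1
    · exact (hf2 a h).2.1
  refine ⟨hinv.toPerm f, hinv, fun a => ?_, fun g hg a => ?_⟩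
  · by_cases h : a ∈ F
    · exact (hf1 a h).2.2
    · exact (hf2 a h).2.2.1
  · show f ((⟨g, hg⟩ : Q) • a) = (⟨g, hg⟩ : Q) • f a
    by_cases h : a ∈ F
    · rw [h ⟨g, hg⟩, (hf1 a h).1 ⟨g, hg⟩]
    · exact (hf2 a h).2.2.2 _

/-- What a compatible pairing looks like. -/
theorem pairing_apply {x π : Perm α} (hs : Sparse x) (hπ2 : ∀ a, π (π a) = a) (hπf : ∀ a, π a ≠ a)
    (hc : ∀ a, π (x a) = x (π a)) (a : α) :
    (x a = a → x (π a) = π a) ∧
      (x a ≠ a → ∃ k : ℕ, π a = (x ^ k) a ∧ (x ^ (2 * k)) a = a ∧ (x ^ k) a ≠ a) := by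
  refine ⟨fun h => by rw [← hc, h], fun h => ?_⟩
  obtain ⟨k, hk⟩ := hs.period a (π a) h fun i =>
    ⟨fun hi => by rw [← pow_comm_apply hc, hi], fun hi => π.injective (by rw [pow_comm_apply hc, hi])⟩
  refine ⟨k, hk.symm, ?_, by rw [hk]; exact hπf a⟩
  rw [two_mul, app_add, hk, ← pow_comm_apply hc, hk, hπ2]

theorem pairing_unique {x π π' : Perm α} (hs : Sparse x) (h2 : ∀ a, π (π a) = a) (hf : ∀ a, π a ≠ a)
    (hc : ∀ a, π (x a) = x (π a)) (h2' : ∀ a, π' (π' a) = a) (hf' : ∀ a, π' a ≠ a)
    (hc' : ∀ a, π' (x a) = x (π' a)) : π = π' := by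
  refine Equiv.ext fun a => ?_
  by_cases h : x a = a
  · rcases hs.fixed a (π a) (π' a) h ((pairing_apply hs h2 hf hc a).1 h)
      ((pairing_apply hs h2' hf' hc' a).1 h) with e | e | e
    · exact absurd e.symm (hf a)
    · exact absurd e.symm (hf' a)
    · exact e
  · obtain ⟨k, hk, hk2, hk1⟩ := (pairing_apply hs h2 hf hc a).2 h
    obtain ⟨k', hk', hk2', hk1'⟩ := (pairing_apply hs h2' hf' hc' a).2 h
    rw [hk, hk']
    exact (two_sol x hk2 hk2' hk1').resolve_left hk1

/-- Uniqueness of the Sylow subgroup. -/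
theorem sylow_unique : ∀ (N : ℕ) (α : Type u) [Finite α] (x : Perm α), Nat.card α = N →
    (∃ k, orderOf x = 2 ^ k) → Sparse x →
    ∀ P Q : Sylow 2 (Perm α), x ∈ P → x ∈ Q → P = Q := by
  intro N
  induction N using Nat.strong_induction_on with
  | _ N ih =>
  intro α _ x hN hx hs P Q hP hQ
  classical
  haveI : Fact (Nat.Prime 2) := ⟨Nat.prime_two⟩
  obtain ⟨kx, hkx⟩ := hx
  rcases Nat.eq_zero_or_pos N with h0 | hpos
  · haveI : IsEmpty α := by
      rcases Nat.card_eq_zero.1 (hN.trans h0) with h | h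
      · exact h
      · exact absurd ‹Finite α› (not_finite_iff_infinite.2 h)
    exact Sylow.ext (Subsingleton.elim _ _)
  rcases Nat.even_or_odd N with heven | hodd
  · -- pairs
    obtain ⟨π, h2, hf, hc⟩ := exists_pairing (P : Subgroup (Perm α)) P.isPGroup' (hN ▸ heven)
    obtain ⟨π', h2', hf', hc'⟩ := exists_pairing (Q : Subgroup (Perm α)) Q.isPGroup' (hN ▸ heven)
    obtain rfl := pairing_unique hs h2 hf (hc x hP) h2' hf' (hc' x hQ)
    let sd : Setoid α :=
      { r := fun a b => a = b ∨ π a = b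
        iseqv := ⟨fun a => Or.inl rfl,
          fun {a b} h => h.elim (fun e => Or.inl e.symm) (fun e => Or.inr (by rw [← e, h2])),
          fun {a b c} h h' => by
            rcases h with rfl | rfl <;> rcases h' with rfl | rfl
            · exact Or.inl rfl
            · exact Or.inr rfl
            · exact Or.inr rfl
            · exact Or.inl (h2 a).symm⟩ }
    let C : Subgroup (Perm α) :=
      { carrier := {g | ∀ a, π (g a) = g (π a)}
        one_mem' := fun a => rfl
        mul_mem' := fun {a b} ha hb c => by rw [Perm.mul_apply, Perm.mul_apply, ha, hb]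
        inv_mem' := fun {a} ha c => a.injective (by rw [← ha]; simp) }
    have hmap : ∀ g ∈ C, ∀ a b : α, sd.r a b → sd.r (g a) (g b) := fun g hg a b h =>
      h.elim (fun e => Or.inl (by rw [e])) (fun e => Or.inr (by rw [hg, e]))
    let β := Quotient sd
    let Ψ : C →* Perm β :=
      { toFun := fun g =>
          { toFun := Quotient.map' (g : Perm α) (hmap g g.2)
            invFun := Quotient.map' ((g⁻¹ : C) : Perm α) (hmap _ (g⁻¹).2)
            left_inv := fun q => Quotient.inductionOn' q fun a => by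
              simp [Quotient.map'_mk'']
            right_inv := fun q => Quotient.inductionOn' q fun a => by
              simp [Quotient.map'_mk''] }
        map_one' := Equiv.ext fun q => Quotient.inductionOn' q fun a => rfl
        map_mul' := fun g h => Equiv.ext fun q => Quotient.inductionOn' q fun a => rfl }
    have hxC : x ∈ C := hc x hP
    set xb := Ψ ⟨x, hxC⟩
    have hpow : ∀ (i : ℕ) (a : α), (xb ^ i) (Quotient.mk'' a) = Quotient.mk'' ((x ^ i) a) := fun i a => by
      rw [← map_pow]; rfl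
    have heq : ∀ {a b : α}, (Quotient.mk'' a : β) = Quotient.mk'' b ↔ (a = b ∨ π a = b) := fun {a b} =>
      Quotient.eq''
    have hhalf : ∀ a, x a ≠ a → ∀ i : ℕ, (xb ^ i) (Quotient.mk'' a) = Quotient.mk'' a ↔ (x ^ (2 * i)) a = a := by
      intro a ha i
      obtain ⟨k, hk, hk2, hk1⟩ := (pairing_apply hs h2 hf (hc x hP) a).2 ha
      rw [hpow, eq_comm, heq]
      constructor
      · rintro (e | e)
        · rw [two_mul, app_add, ← e, ← e]
        · rw [two_mul, app_add, ← e, ← pow_comm_apply (hc x hP), ← e, h2]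
      · intro h
        rcases two_sol x h hk2 hk1 with e | e
        · exact Or.inl e.symm
        · exact Or.inr (by rw [hk, e])
    have hsb : Sparse xb := by
      refine ⟨?_, ?_⟩
      · intro A B D
        refine Quotient.inductionOn₃' A B D fun a b c hA hB hD => ?_
        have key : ∀ a, xb (Quotient.mk'' a) = Quotient.mk'' a → x a = a ∨ (x a ≠ a ∧ (x ^ 2) a = a) := by
          intro a h
          by_cases ha : x a = a
          · exact Or.inl ha
          · exact Or.inr ⟨ha, (hhalf a ha 1).1 (by rwa [pow_one])⟩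
        have two : ∀ a b, (x a ≠ a ∧ (x ^ 2) a = a) → (x b ≠ b ∧ (x ^ 2) b = b) →
            (Quotient.mk'' a : β) = Quotient.mk'' b := by
          intro a b ⟨ha, ha2⟩ ⟨hb, hb2⟩
          have hper : ∀ {c : α}, x c ≠ c → (x ^ 2) c = c → ∀ i : ℕ, (x ^ i) c = c ↔ Even i := by
            intro c hc1 hc2 i
            have hev : ∀ j, (x ^ (2 * j)) c = c := fun j => by
              rw [pow_mul, ← Equiv.Perm.iterate_eq_pow]; exact Function.iterate_fixed hc2 j
            rcases Nat.even_or_odd' i with ⟨j, rfl | rfl⟩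
            · simp [hev]
            · refine ⟨fun h => absurd ?_ hc1, fun h => absurd h (by simp)⟩
              rw [add_comm, app_add, hev, pow_one] at h
              exact h
          obtain ⟨i, hi⟩ := hs.period a b ha fun i => (hper ha ha2 i).trans (hper hb hb2 i).symm
          obtain ⟨k, hk, hk2, hk1⟩ := (pairing_apply hs h2 hf (hc x hP) a).2 ha
          rw [heq]
          have h2i : (x ^ (2 * i)) a = a := by
            rw [pow_mul, ← Equiv.Perm.iterate_eq_pow]; exact Function.iterate_fixed ha2 i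
          rcases two_sol x h2i hk2 hk1 with e | e
          · exact Or.inl (e ▸ hi)
          · exact Or.inr (by rw [hk, ← e, hi])
        have fix : ∀ a b, x a = a → x b = b → (Quotient.mk'' a : β) = Quotient.mk'' b := by
          intro a b ha hb
          rw [heq]
          rcases hs.fixed a (π a) b ha ((pairing_apply hs h2 hf (hc x hP) a).1 ha) hb with e | e | e
          · exact absurd e.symm (hf a)
          · exact Or.inl e
          · exact Or.inr e
        rcases key a hA with h1 | h1 <;> rcases key b hB with h2' | h2' <;> rcases key c hD with h3 | h3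
        all_goals first
          | exact Or.inl (fix _ _ h1 h2')
          | exact Or.inl (two _ _ h1 h2')
          | exact Or.inr (Or.inl (fix _ _ h1 h3))
          | exact Or.inr (Or.inl (two _ _ h1 h3))
          | exact Or.inr (Or.inr (fix _ _ h2' h3))
          | exact Or.inr (Or.inr (two _ _ h2' h3))
      · intro A B
        refine Quotient.inductionOn₂' A B fun a b hA hAB => ?_
        have ha : x a ≠ a := fun h => hA (by rw [← pow_one xb, hpow, pow_one, h])
        have hb' : xb (Quotient.mk'' b) ≠ Quotient.mk'' b := fun h =>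
          hA (by rw [← pow_one xb] at h ⊢; exact (hAB 1).2 h)
        have hb : x b ≠ b := fun h => hb' (by rw [← pow_one xb, hpow, pow_one, h])
        obtain ⟨i, hi⟩ := hs.period a b ha fun i => by
          rcases Nat.even_or_odd' i with ⟨j, rfl | rfl⟩
          · rw [← hhalf a ha, ← hhalf b hb]; exact hAB j
          · exact ⟨fun h => absurd (fixed_of_odd ⟨kx, hkx⟩ ⟨j, rfl⟩ h) ha,
              fun h => absurd (fixed_of_odd ⟨kx, hkx⟩ ⟨j, rfl⟩ h) hb⟩
        exact ⟨i, by rw [hpow, hi]⟩
    have hxb : ∃ k, orderOf xb = 2 ^ k := by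
      have h1 : orderOf xb ∣ 2 ^ kx := by
        refine (orderOf_map_dvd Ψ _).trans ?_
        rw [Subgroup.orderOf_mk, hkx]
      obtain ⟨j, -, hj⟩ := (Nat.dvd_prime_pow Nat.prime_two).1 h1
      exact ⟨j, hj⟩
    have hlt : Nat.card β < N := by
      rw [← hN]
      haveI := Fintype.ofFinite α
      haveI := Fintype.ofFinite β
      rw [Nat.card_eq_fintype_card, Nat.card_eq_fintype_card]
      refine Fintype.card_lt_of_surjective_not_injective _ Quotient.mk''_surjective fun hinj => ?_
      obtain ⟨a⟩ : Nonempty α := (Nat.card_pos_iff.1 (hN ▸ hpos)).1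
      exact hf a (hinj (heq.2 (Or.inr (h2 a))) : π a = a)
    have hker : IsPGroup 2 Ψ.ker := by
      intro g
      refine ⟨1, Subtype.ext (Subtype.ext (Equiv.ext fun a => ?_))⟩
      rw [pow_one, pow_two]
      have h1 : ∀ b, (g : C).1 b = b ∨ (g : C).1 b = π b := fun b => by
        have h := congrArg (fun w : Perm β => w (Quotient.mk'' b)) (MonoidHom.mem_ker.1 g.2)
        have h' : (Quotient.mk'' b : β) = Quotient.mk'' ((g : C).1 b) := h.symm
        exact (heq.1 h').imp Eq.symm Eq.symm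
      show (g : C).1 ((g : C).1 a) = a
      rcases h1 a with e | e
      · rw [e, e]
      · rw [e, ← (g : C).2, e, h2]
    -- both Sylow subgroups are pulled back from the same one
    have key : ∀ R : Sylow 2 (Perm α), x ∈ R → (∀ g ∈ (R : Subgroup (Perm α)), g ∈ C) →
        ∃ T : Sylow 2 (Perm β), xb ∈ T ∧ (R : Subgroup (Perm α)) = ((T : Subgroup (Perm β)).comap Ψ).map C.subtype := by
      intro R hxR hRC
      obtain ⟨T, hT⟩ := ((R.isPGroup'.of_equiv (Subgroup.subgroupOfEquivOfLe hRC).symm).map Ψ).exists_le_sylow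
      refine ⟨T, hT ⟨⟨x, hxC⟩, hxR, rfl⟩, (R.is_maximal' ((T.isPGroup'.comap_of_ker_isPGroup Ψ hker).map _) ?_).symm⟩
      intro g hg
      exact ⟨⟨g, hRC g hg⟩, hT ⟨⟨g, hRC g hg⟩, hg, rfl⟩, rfl⟩
    obtain ⟨T, hTx, hPT⟩ := key P hP hc
    obtain ⟨T', hTx', hQT⟩ := key Q hQ hc'
    obtain rfl := ih _ hlt β xb rfl hxb hsb T T' hTx hTx'
    exact Sylow.ext (hPT.trans hQT.symm)
  · -- one fixed point
    have hxp : IsPGroup 2 (Subgroup.zpowers x) := IsPGroup.of_card (n := kx) (by rw [Nat.card_zpowers, hkx])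
    have hone : ∀ a b, x a = a → x b = b → a = b := by
      intro a b ha hb
      by_contra hne
      have hF : MulAction.fixedPoints (Subgroup.zpowers x) α = {a, b} := by
        ext c
        constructor
        · intro hc
          rcases hs.fixed a b c ha hb (hc ⟨x, Subgroup.mem_zpowers x⟩) with e | e | e
          · exact absurd e hne
          · exact Or.inl e.symm
          · exact Or.inr e.symm
        · rintro (rfl | rfl) ⟨g, hg⟩ <;> obtain ⟨i, rfl⟩ := Subgroup.mem_zpowers_iff.1 hg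
          · exact Equiv.Perm.zpow_apply_eq_self_of_apply_eq_self ha i
          · exact Equiv.Perm.zpow_apply_eq_self_of_apply_eq_self hb i
      have h := hxp.card_modEq_card_fixedPoints α
      rw [hF, Nat.card_coe_set_eq, Set.ncard_pair hne, hN, Nat.ModEq, Nat.odd_iff.1 hodd] at h
      omega
    have hfix : ∀ R : Sylow 2 (Perm α), x ∈ R → ∃ a, x a = a ∧ ∀ g ∈ (R : Subgroup (Perm α)), g a = a := by
      intro R hxR
      obtain ⟨a, ha⟩ := R.isPGroup'.nonempty_fixed_point_of_prime_not_dvd_card α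
        (by rw [hN]; exact fun h => (Nat.not_even_iff_odd.2 hodd) (even_iff_two_dvd.2 h))
      exact ⟨a, ha ⟨x, hxR⟩, fun g hg => ha ⟨g, hg⟩⟩
    obtain ⟨a, hxa, hPa⟩ := hfix P hP
    obtain ⟨a', hxa', hQa⟩ := hfix Q hQ
    obtain rfl := hone a a' hxa hxa'
    let β := {b : α // b ≠ a}
    let xb : Perm β := x.subtypePerm (fun b => not_congr ⟨fun h => x.injective (h.trans hxa.symm), fun h => h ▸ hxa⟩)
    have hpow : ∀ (i : ℕ) (b : β), ((xb ^ i) b : α) = (x ^ i) b := by
      intro i
      induction i with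
      | zero => intro b; rfl
      | succ i ih => intro b; rw [pow_succ', pow_succ', Perm.mul_apply, Perm.mul_apply, ← ih]; rfl
    have hsb : Sparse xb := by
      refine ⟨fun b c d hb hc hd => (hs.fixed b c d (congrArg Subtype.val hb) (congrArg Subtype.val hc)
        (congrArg Subtype.val hd)).imp Subtype.ext (Or.imp Subtype.ext Subtype.ext), fun b c hb hbc => ?_⟩
      obtain ⟨i, hi⟩ := hs.period b c (fun h => hb (Subtype.ext h)) fun i =>
        ⟨fun h => by rw [← hpow]; exact congrArg Subtype.val ((hbc i).1 (Subtype.ext (by rw [hpow]; exact h))),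
          fun h => by rw [← hpow]; exact congrArg Subtype.val ((hbc i).2 (Subtype.ext (by rw [hpow]; exact h)))⟩
      exact ⟨i, Subtype.ext (by rw [hpow]; exact hi)⟩
    have hox : Perm.ofSubtype xb = x :=
      Perm.ofSubtype_subtypePerm _ (fun b hb h => hb (h ▸ hxa))
    have hxb : ∃ k, orderOf xb = 2 ^ k :=
      ⟨kx, by rw [← orderOf_injective Perm.ofSubtype Perm.ofSubtype_injective, hox, hkx]⟩
    have hlt : Nat.card β < N := by
      rw [← hN]
      haveI := Fintype.ofFinite α
      haveI := Fintype.ofFinite β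
      rw [Nat.card_eq_fintype_card, Nat.card_eq_fintype_card]
      exact Fintype.card_subtype_lt (x := a) (by simp)
    have key : ∀ R : Sylow 2 (Perm α), x ∈ R → (∀ g ∈ (R : Subgroup (Perm α)), g a = a) →
        ∃ T : Sylow 2 (Perm β), xb ∈ T ∧ (R : Subgroup (Perm α)) = (T : Subgroup (Perm β)).map (Perm.ofSubtype : Perm β →* Perm α) := by
      intro R hxR hRa
      obtain ⟨T, hT⟩ := (R.isPGroup'.comap_of_injective (Perm.ofSubtype : Perm β →* Perm α) Perm.ofSubtype_injective).exists_le_sylow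
      refine ⟨T, hT (by rw [Subgroup.mem_comap, hox]; exact hxR), (R.is_maximal' (T.isPGroup'.map _) ?_).symm⟩
      intro g hg
      have e : Perm.ofSubtype (g.subtypePerm (p := fun b => b ≠ a)
          (fun b => not_congr ⟨fun h => g.injective (h.trans (hRa g hg).symm), fun h => h ▸ hRa g hg⟩)) = g :=
        Perm.ofSubtype_subtypePerm _ (fun b hb h => hb (h ▸ hRa g hg))
      exact ⟨_, hT (by rw [Subgroup.mem_comap, e]; exact hg), e⟩
    obtain ⟨T, hTx, hPT⟩ := key P hP hPa
    obtain ⟨T', hTx', hQT⟩ := key Q hQ hQa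
    obtain rfl := ih _ hlt β xb rfl hxb hsb T T' hTx hTx'
    exact Sylow.ext (hPT.trans hQT.symm)

section

variable [DecidableEq α]

/-- A transposition whose translates commute lies in the unique Sylow subgroup. -/
theorem swap_mem {x : Perm α} {kx : ℕ} (hx : orderOf x = 2 ^ kx) {P : Sylow 2 (Perm α)}
    (huniq : ∀ Q : Sylow 2 (Perm α), x ∈ Q → Q = P) {p q : α}
    (h : ∀ i : ℕ, ((x ^ i) p = p ∧ (x ^ i) q = q) ∨ ((x ^ i) p = q ∧ (x ^ i) q = p) ∨
      ((x ^ i) p ≠ p ∧ (x ^ i) p ≠ q ∧ (x ^ i) q ≠ p ∧ (x ^ i) q ≠ q)) :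
    swap p q ∈ P := by
  haveI : Fact (Nat.Prime 2) := ⟨Nat.prime_two⟩
  set τ := swap p q
  set K := Subgroup.closure (Set.range fun i : ℕ => x ^ i * τ * (x ^ i)⁻¹)
  have hconj : ∀ i : ℕ, x ^ i * τ * (x ^ i)⁻¹ = swap ((x ^ i) p) ((x ^ i) q) := fun i => by
    rw [swap_apply_apply]
  have hc0 : ∀ i : ℕ, Commute τ (x ^ i * τ * (x ^ i)⁻¹) := by
    intro i
    rw [hconj]
    rcases h i with ⟨e1, e2⟩ | ⟨e1, e2⟩ | ⟨e1, e2, e3, e4⟩
    · rw [e1, e2]
    · rw [e1, e2, swap_comm]
    · refine Equiv.Perm.Disjoint.commute fun b => ?_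
      by_contra hb
      push Not at hb
      obtain ⟨hb1, hb2⟩ := hb
      have hb1' : b = p ∨ b = q := by
        by_contra hne
        push Not at hne
        exact hb1 (swap_apply_of_ne_of_ne hne.1 hne.2)
      have hb2' : b = (x ^ i) p ∨ b = (x ^ i) q := by
        by_contra hne
        push Not at hne
        exact hb2 (swap_apply_of_ne_of_ne hne.1 hne.2)
      rcases hb1' with rfl | rfl <;> rcases hb2' with e | e
      · exact e1 e.symm
      · exact e3 e.symm
      · exact e2 e.symm
      · exact e4 e.symm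
  have hcc : ∀ a ∈ Set.range (fun i : ℕ => x ^ i * τ * (x ^ i)⁻¹), ∀ b ∈ Set.range (fun i : ℕ => x ^ i * τ * (x ^ i)⁻¹), a * b = b * a := by
    have hmono : ∀ i d : ℕ, Commute (x ^ i * τ * (x ^ i)⁻¹) (x ^ (i + d) * τ * (x ^ (i + d))⁻¹) := by
      intro i d
      have e : x ^ (i + d) * τ * (x ^ (i + d))⁻¹ = MulAut.conj (x ^ i) (x ^ d * τ * (x ^ d)⁻¹) := by
        rw [MulAut.conj_apply, pow_add]; group
      rw [e]
      exact (hc0 d).map (MulAut.conj (x ^ i)).toMonoidHom
    rintro _ ⟨i, rfl⟩ _ ⟨j, rfl⟩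
    rcases le_total i j with hle | hle
    · obtain ⟨d, rfl⟩ := Nat.exists_eq_add_of_le hle
      exact (hmono i d).eq
    · obtain ⟨d, rfl⟩ := Nat.exists_eq_add_of_le hle
      exact (hmono j d).eq.symm
  have hK : IsPGroup 2 K := by
    intro g
    refine ⟨1, Subtype.ext ?_⟩
    rw [pow_one, SubmonoidClass.coe_pow, OneMemClass.coe_one]
    have hcK := Subgroup.isMulCommutative_closure hcc
    have : ∀ a ∈ K, a ^ 2 = 1 := by
      intro a ha
      induction ha using Subgroup.closure_induction with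
      | mem y hy =>
        obtain ⟨i, rfl⟩ := hy
        show (x ^ i * τ * (x ^ i)⁻¹) ^ 2 = 1
        rw [conj_pow, pow_two, swap_mul_self]; group
      | one => exact one_pow 2
      | mul a b ha hb iha ihb =>
        have hab : Commute a b := congrArg Subtype.val (hcK.is_comm.comm (⟨a, ha⟩ : K) ⟨b, hb⟩)
        rw [hab.mul_pow, iha, ihb, one_mul]
      | inv a _ iha => rw [inv_pow, iha, inv_one]
    exact this g g.2
  have hnorm : Subgroup.zpowers x ≤ Subgroup.normalizer (K : Set (Perm α)) := by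
    rw [Subgroup.zpowers_le]
    have h1 : ∀ g ∈ Subgroup.zpowers x, ∀ a ∈ K, g * a * g⁻¹ ∈ K := by
      intro g hg a ha
      obtain ⟨i, rfl⟩ := (IsOfFinOrder.mem_powers_iff_mem_zpowers (isOfFinOrder_of_finite x)).2 hg
      induction ha using Subgroup.closure_induction with
      | mem y hy =>
        obtain ⟨j, rfl⟩ := hy
        refine Subgroup.subset_closure ⟨i + j, ?_⟩
        simp only [pow_add]; group
      | one => simp
      | mul a b _ _ iha ihb => rw [← conj_mul]; exact K.mul_mem iha ihb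
      | inv a _ iha => rw [← conj_inv]; exact K.inv_mem iha
    rw [Subgroup.mem_normalizer_iff]
    refine fun a => ⟨h1 x (Subgroup.mem_zpowers x) a, fun ha => ?_⟩
    have := h1 x⁻¹ (Subgroup.inv_mem _ (Subgroup.mem_zpowers x)) _ ha
    simpa [mul_assoc] using this
  have hU : IsPGroup 2 (Subgroup.zpowers x ⊔ K : Subgroup (Perm α)) :=
    (IsPGroup.of_card (n := kx) (by rw [Nat.card_zpowers, hx])).to_sup_of_normal_right' hK hnorm
  obtain ⟨Q, hQ⟩ := hU.exists_le_sylow
  have e := huniq Q (hQ (Subgroup.mem_sup_left (Subgroup.mem_zpowers x)))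
  rw [← e]
  exact hQ (Subgroup.mem_sup_right (Subgroup.subset_closure ⟨0, by simp [τ]⟩))

theorem sparse_of_unique {x : Perm α} (hx : ∃ k, orderOf x = 2 ^ k)
    (h : ∃! P : Sylow 2 (Perm α), x ∈ P) : Sparse x := by
  haveI : Fact (Nat.Prime 2) := ⟨Nat.prime_two⟩
  obtain ⟨P, -, huniq⟩ := h
  obtain ⟨kx, hkx⟩ := hx
  have hthree : ∀ a b c : α, a ≠ b → a ≠ c → b ≠ c → swap a b ∈ P → swap a c ∈ P → False := by
    intro a b c hab hac hbc h1 h2
    have hm : swap a b * swap a c ∈ (P : Subgroup (Perm α)) := Subgroup.mul_mem _ h1 h2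
    obtain ⟨k, hk⟩ := IsPGroup.iff_orderOf.1 P.isPGroup' ⟨_, hm⟩
    rw [Subgroup.orderOf_mk] at hk
    haveI := Fintype.ofFinite α
    have h3 : orderOf (swap a b * swap a c) = 3 :=
      (Equiv.Perm.isThreeCycle_swap_mul_swap_same hab hac hbc).orderOf
    rw [h3] at hk
    rcases k with - | k
    · simp at hk
    · rw [pow_succ] at hk; omega
  refine ⟨fun a b c ha hb hc => ?_, fun a b ha hab => ?_⟩
  · by_contra hne
    push Not at hne
    have hfix : ∀ {d : α}, x d = d → ∀ i : ℕ, (x ^ i) d = d := fun {d} hd i => by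
      rw [← Equiv.Perm.iterate_eq_pow]; exact Function.iterate_fixed hd i
    exact hthree a b c hne.1 hne.2.1 hne.2.2
      (swap_mem hkx huniq fun i => Or.inl ⟨hfix ha i, hfix hb i⟩)
      (swap_mem hkx huniq fun i => Or.inl ⟨hfix ha i, hfix hc i⟩)
  · by_contra hne
    push Not at hne
    set p := Function.minimalPeriod x a
    have hd : ∀ j, (x ^ j) a = a ↔ p ∣ j := fun j => by
      rw [← Function.isPeriodicPt_iff_minimalPeriod_dvd, ← Equiv.Perm.iterate_eq_pow]; rfl
    have hp1 : p ≠ 1 := fun h => ha (by have := (hd 1).2 (by rw [h]); rwa [pow_one] at this)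
    obtain ⟨j, -, hj⟩ := (Nat.dvd_prime_pow Nat.prime_two).1
      ((hd (2 ^ kx)).1 (by rw [← hkx, pow_orderOf_eq_one]; rfl))
    obtain ⟨j, rfl⟩ : ∃ j', j = j' + 1 := by
      rcases j with - | j
      · exact absurd (by rw [hj]; rfl) hp1
      · exact ⟨j, rfl⟩
    set h := 2 ^ j
    have hhp : p = 2 * h := by rw [hj, pow_succ, mul_comm]
    have hh1 : (x ^ h) a ≠ a := fun e => by
      have h4 := Nat.le_of_dvd (by positivity) ((hd h).1 e)
      have h5 : 0 < h := by positivity
      omega
    have hh2 : (x ^ (2 * h)) a = a := (hd _).2 (by rw [hhp])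
    have hab' : a ≠ b := fun e => hne 0 (by rw [pow_zero, e]; rfl)
    refine hthree a ((x ^ h) a) b (Ne.symm hh1) hab' (hne h) ?_ ?_
    · refine swap_mem hkx huniq fun i => ?_
      have hih : (x ^ i) ((x ^ h) a) = (x ^ h) ((x ^ i) a) := by rw [← app_add, ← app_add, add_comm]
      by_cases e1 : (x ^ i) a = a
      · exact Or.inl ⟨e1, by rw [hih, e1]⟩
      by_cases e2 : (x ^ i) a = (x ^ h) a
      · refine Or.inr (Or.inl ⟨e2, ?_⟩)
        rw [hih, e2, ← app_add, ← two_mul, hh2]
      refine Or.inr (Or.inr ⟨e1, e2, fun e => e2 ?_, fun e => e1 ?_⟩)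
      · rw [hih] at e
        apply (x ^ h).injective
        rw [e, ← app_add, ← two_mul, hh2]
      · rw [hih] at e
        exact (x ^ h).injective e
    · refine swap_mem hkx huniq fun i => ?_
      by_cases e1 : (x ^ i) a = a
      · exact Or.inl ⟨e1, (hab i).1 e1⟩
      refine Or.inr (Or.inr ⟨e1, hne i, fun e => ?_, fun e => e1 ((hab i).2 e)⟩)
      -- `b` would be in the orbit of `a`
      have h0 : 0 < orderOf x := orderOf_pos x
      refine hne ((orderOf x - 1) * i) ?_
      conv_lhs => rw [← e]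
      rw [← app_add, show (orderOf x - 1) * i + i = orderOf x * i by
        rw [← Nat.succ_mul, Nat.succ_eq_add_one, Nat.sub_add_cancel h0], pow_mul, pow_orderOf_eq_one, one_pow]
      rfl

end

/-- The criterion in terms of the cycle type. -/
theorem sparse_iff [Fintype α] [DecidableEq α] (x : Perm α) :
    Sparse x ↔ (Fintype.card α ≤ x.support.card + 2 ∧ x.cycleType.Nodup) := by
  classical
  have hfixcard : (x.supportᶜ).card + x.support.card = Fintype.card α := Finset.card_compl_add_card _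
  have hord : ∀ {a}, x a ≠ a → ∀ i : ℕ, (x ^ i) a = a ↔ (x.cycleOf a).support.card ∣ i := by
    intro a ha i
    have hc := Equiv.Perm.isCycle_cycleOf x ha
    rw [← hc.orderOf, orderOf_dvd_iff_pow_eq_one,
      hc.pow_eq_one_iff' (x := a) (by rwa [Equiv.Perm.cycleOf_apply_self]), Equiv.Perm.cycleOf_pow_apply_self]
  have hnodup : x.cycleType.Nodup ↔
      ∀ c ∈ x.cycleFactorsFinset, ∀ d ∈ x.cycleFactorsFinset, c.support.card = d.support.card → c = d := by
    rw [Equiv.Perm.cycleType_def, Finset.nodup_map_iff_injOn]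
    rfl
  rw [hnodup]
  constructor
  · intro hs
    refine ⟨?_, fun c hc d hd hcd => ?_⟩
    · have : (x.supportᶜ).card ≤ 2 := by
        by_contra hlt
        obtain ⟨a, b, c, ha, hb, hc, hab, hac, hbc⟩ := Finset.two_lt_card_iff.1 (not_le.1 hlt)
        simp only [Finset.mem_compl, Equiv.Perm.mem_support, not_not] at ha hb hc
        rcases hs.fixed a b c ha hb hc with e | e | e
        exacts [hab e, hac e, hbc e]
      omega
    · obtain ⟨a, ha⟩ := (Equiv.Perm.mem_cycleFactorsFinset_iff.1 hc).1.nonempty_support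
      obtain ⟨b, hb⟩ := (Equiv.Perm.mem_cycleFactorsFinset_iff.1 hd).1.nonempty_support
      have hca := Equiv.Perm.cycle_is_cycleOf ha hc
      have hdb := Equiv.Perm.cycle_is_cycleOf hb hd
      have ha' : x a ≠ a := Equiv.Perm.mem_support.1 (Equiv.Perm.mem_cycleFactorsFinset_support_le hc ha)
      have hb' : x b ≠ b := Equiv.Perm.mem_support.1 (Equiv.Perm.mem_cycleFactorsFinset_support_le hd hb)
      obtain ⟨i, hi⟩ := hs.period a b ha' fun i => by
        rw [hord ha', hord hb', ← hca, ← hdb, hcd]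
      rw [hca, hdb]
      exact Equiv.Perm.SameCycle.cycleOf_eq ⟨(i : ℤ), by rw [zpow_natCast]; exact hi⟩
  · rintro ⟨hn, hcyc⟩
    refine ⟨fun a b c ha hb hc => ?_, fun a b ha hab => ?_⟩
    · by_contra hne
      push Not at hne
      have h2 : 2 < (x.supportᶜ).card := Finset.two_lt_card_iff.2
        ⟨a, b, c, by simp [ha], by simp [hb], by simp [hc], hne.1, hne.2.1, hne.2.2⟩
      omega
    · have hb : x b ≠ b := fun hb => ha (by
        have := (hab 1).2 (by rwa [pow_one]); rwa [pow_one] at this)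
      have hdvd : ∀ i, (x.cycleOf a).support.card ∣ i ↔ (x.cycleOf b).support.card ∣ i := fun i => by
        rw [← hord ha, ← hord hb]; exact hab i
      have hcard := Nat.dvd_antisymm ((hdvd _).2 dvd_rfl) ((hdvd _).1 dvd_rfl)
      have he := hcyc _ (Equiv.Perm.cycleOf_mem_cycleFactorsFinset_iff.2 (Equiv.Perm.mem_support.2 ha)) _
        (Equiv.Perm.cycleOf_mem_cycleFactorsFinset_iff.2 (Equiv.Perm.mem_support.2 hb)) hcard
      have hsame : x.SameCycle a b := by
        have hm : b ∈ (x.cycleOf a).support := by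
          rw [he, Equiv.Perm.mem_support, Equiv.Perm.cycleOf_apply_self]; exact hb
        exact (Equiv.Perm.mem_support_cycleOf_iff.1 hm).1
      obtain ⟨i, -, hi⟩ := hsame.exists_pow_eq'
      exact ⟨i, hi⟩

theorem main [Fintype α] [DecidableEq α] (x : Perm α) (hx : ∃ k : ℕ, orderOf x = 2 ^ k) :
    (∃! P : Sylow 2 (Perm α), x ∈ P) ↔ (Fintype.card α ≤ x.support.card + 2 ∧ x.cycleType.Nodup) := by
  rw [← sparse_iff]
  refine ⟨sparse_of_unique hx, fun hs => ?_⟩
  haveI : Fact (Nat.Prime 2) := ⟨Nat.prime_two⟩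
  obtain ⟨k, hk⟩ := hx
  obtain ⟨P, hP⟩ := (IsPGroup.of_card (n := k) (G := Subgroup.zpowers x) (p := 2)
    (by rw [Nat.card_zpowers, hk])).exists_le_sylow
  have hxP : x ∈ P := hP (Subgroup.mem_zpowers x)
  exact ⟨P, hxP, fun Q hQ => sylow_unique _ α x rfl ⟨k, hk⟩ hs Q P hQ hxP⟩

end Cfsg.Agent.FGS4.UniqueSylow
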